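import Groth.Agent.RedSub.H660.ParLoc
import Groth.Agent.RedSub.H657.FacLoc
import Groth.Agent.CanPar.K795.ParExt
import Groth.Agent.Sga1.SigmaFinite

/-!
# Classes of subgroups which are étale locally finite

* `single q` : the class of the base changes of one closed subgroup `q`; it is represented by the base;
* `aboveClass 𝒬 p` : the subgroups of class `𝒬` containing `p`;
* `exists_rep_fin` : a class whose members are étale locally one of finitely many subgroups `q k`.
-/

set_option autoImplicit false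
universe u

open CategoryTheory CategoryTheory.Limits AlgebraicGeometry Opposite MonoidalCategory CartesianMonoidalCategory
  MonObj GrpObj

namespace K843.Above

open Groth.Agent Groth.Agent.Sga3B Groth.Agent.Sga3B.BcPts Groth.Agent.Sga3B.MT
open Groth.Agent.RedSub.H647.SubPt Groth.Agent.RedSub.H647.SubF Groth.Agent.RedSub.H647.SubF.SubClass
open Groth.Agent.RedSub.H660.ConjRep Groth.Agent.RedSub.H660.Restrict Groth.Agent.RedSub.H660.FinCop
open K795.ParExt

variable {S : Scheme.{u}} {G : Over S} [GrpObj G]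

/-- the class of the base changes of one subgroup -/
def single {Q : Over S} (q : Q ⟶ G) : SubClass G where
  Q {S'} f _ _ h := IsMonHom h ∧ IsClosedImmersion h.left ∧
    ∀ (X : Scheme.{u}) (y : X ⟶ S') (g : X ⟶ G.left), Pt h y g ↔ (PtG q g ∧ y ≫ f = g ≫ G.hom)
  isMonHom h := h.1
  isClosedImmersion h := h.2.1
  of_iso {S' f H H' _ _ h h'} e he hh := by
    have h1 := hh.1
    have h2 := hh.2.1
    have e1 : h' = e.inv.hom.hom ≫ h := by
      have e2 : e.inv.hom.hom ≫ e.hom.hom.hom = 𝟙 _ := congrArg (fun z => z.hom.hom) e.inv_hom_id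
      rw [← he, ← Category.assoc, e2, Category.id_comp]
    have h3 : IsMonHom e.inv.hom.hom := e.inv.hom.isMonHom_hom
    have h4 : IsIso e.inv.hom.hom := (Sga3B.RedIso.und e).isIso_inv
    have h5 : IsIso e.inv.hom.hom.left := (Over.forget _).map_isIso e.inv.hom.hom
    refine ⟨?_, ?_, fun X y g => ?_⟩
    · rw [e1]; infer_instance
    · rw [e1, Over.comp_left]; infer_instance
    · rw [← hh.2.2]
      exact ⟨pt_of_fac e.inv.hom.hom e1.symm, pt_of_fac e.hom.hom.hom he⟩
  bc {S' S''} r f H _ h hh := by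
    have h1 := hh.1
    have h2 := hh.2.1
    exact ⟨isMonHom_bcSub r h, isClosedImmersion_bcSub r h, fun X y g => by
      rw [pt_bcSub, hh.2.2, Category.assoc]⟩

theorem single_map {Q : Over S} [GrpObj Q] (q : Q ⟶ G) [IsMonHom q] [IsClosedImmersion q.left]
    {S' : Scheme.{u}} (f : S' ⟶ S) : (single q).Q f ((Over.pullback f).map q) :=
  ⟨inferInstance, MorphismProperty.overPullbackMap (P := @IsClosedImmersion) _ q inferInstance,
    fun _ y g => pt_pullback f q y g⟩

theorem representableBy_single {Q : Over S} [GrpObj Q] (q : Q ⟶ G) [IsMonHom q] [IsClosedImmersion q.left] :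
    Nonempty ((single q).subsF.RepresentableBy (Over.mk (𝟙 S))) := by
  refine (single q).representableBy (M := Over.mk (𝟙 S)) (h := (Over.pullback (𝟙 S)).map q)
    ⟨single_map q (𝟙 S), ?_⟩
  intro S' f H' _ h' hQ'
  refine ⟨f, ⟨Category.comp_id f, ?_⟩, fun a ha => ?_⟩
  · rw [samePoints_iff]
    intro X y g
    rw [hQ'.2.2]
    refine Iff.trans ?_ (pt_pullback (𝟙 S) q (y ≫ f) g).symm
    rw [Category.comp_id]
  · exact (Category.comp_id a).symm.trans ha.1

/-- the subgroups of class `𝒬` containing `p` -/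
def aboveClass (𝒬 : SubClass G) {P : Over S} (p : P ⟶ G) : SubClass G where
  Q {S'} f _ _ h := 𝒬.Q f h ∧ ∀ (X : Scheme.{u}) (y : X ⟶ S') (g : X ⟶ G.left), PtG p g →
    y ≫ f = g ≫ G.hom → Pt h y g
  isMonHom h := 𝒬.isMonHom h.1
  isClosedImmersion h := 𝒬.isClosedImmersion h.1
  of_iso e he h := ⟨𝒬.of_iso e he h.1, fun X y g h1 h2 => by
    have e2 : e.inv.hom.hom ≫ e.hom.hom.hom = 𝟙 _ := congrArg (fun z => z.hom.hom) e.inv_hom_id
    exact pt_of_fac e.hom.hom.hom he (h.2 X y g h1 h2)⟩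
  bc {S' S''} r f H _ h hh := ⟨𝒬.bc r hh.1, fun X y g h1 h2 => (pt_bcSub r h y g).2
    (hh.2 X _ g h1 (by rw [← h2, Category.assoc]))⟩

theorem aboveClass_isLocal {𝒬 : SubClass G} (h𝒬 : 𝒬.IsLocal (fun {_ _ _} q => EtCov q)) {P : Over S} (p : P ⟶ G) :
    (aboveClass 𝒬 p).IsLocal (fun {_ _ _} q => EtCov q) := by
  intro S' f J S'' q hq H _ h h1 h2 h3
  refine ⟨h𝒬 f q hq h h1 h2 fun i => (h3 i).1, fun X y g hg hy => ?_⟩
  rw [pt_iff_lift h y g hy.symm]
  have hm : Mono h.left := inferInstance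
  refine RedSub.H657.FacLoc.exists_fac_of_local _ _ fun x => ?_
  obtain ⟨i, s, hs⟩ := hq.2 (y x)
  have hqi := hq.1 i
  obtain ⟨w, hw1, hw2⟩ := Scheme.Pullback.exists_preimage_pullback (f := y) (g := q i) x s hs.symm
  refine ⟨pullback y (q i), pullback.fst y (q i), inferInstance, inferInstance, ⟨w, hw1⟩, ?_⟩
  have h4 := (h3 i).2 _ (pullback.snd y (q i)) (pullback.fst y (q i) ≫ g) (hg.comp _) (by
    rw [← Category.assoc, ← pullback.condition, Category.assoc, hy, Category.assoc])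
  rw [pt_bcSub, pt_iff_lift h _ _ (by rw [← pullback.condition, Category.assoc, Category.assoc, hy])] at h4
  obtain ⟨z, hz⟩ := h4
  refine ⟨z, ?_⟩
  rw [hz]
  apply pullback.hom_ext
  · rw [pullback.lift_fst, Category.assoc, pullback.lift_fst]
  · rw [pullback.lift_snd, Category.assoc, pullback.lift_snd, pullback.condition]

/-- Containment after restriction. -/
theorem restrict_above_iff {V S' : Scheme.{u}} (v : V ⟶ S) (f : S' ⟶ V) {H : Over S'} (h : H ⟶ Red.bc f (Red.bc v G))
    {P : Over S} (p : P ⟶ G) :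
    (∀ (X : Scheme.{u}) (y : X ⟶ S') (g : X ⟶ G.left), PtG p g → y ≫ f ≫ v = g ≫ G.hom → Pt (down v h) y g) ↔
      ∀ (X : Scheme.{u}) (y : X ⟶ S') (g : X ⟶ (Red.bc v G).left), PtG ((Over.pullback v).map p) g →
        y ≫ f = g ≫ (Red.bc v G).hom → Pt h y g := by
  have hfst : ((Over.pullback v).map p).left ≫ pullback.fst G.hom v = pullback.fst P.hom v ≫ p.left :=
    pullback.lift_fst _ _ _
  have hsnd : ((Over.pullback v).map p).left ≫ pullback.snd G.hom v = pullback.snd P.hom v :=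
    pullback.lift_snd _ _ _
  constructor
  · rintro H X y g ⟨z, rfl⟩ hy
    refine (pt_iff_down v h y _).2 ⟨hy.symm, ?_⟩
    refine H X y _ ⟨z ≫ pullback.fst P.hom v, by rw [Category.assoc, Category.assoc, hfst]⟩ ?_
    have h1 := congrArg (· ≫ v) hy
    simp only [Category.assoc] at h1 ⊢
    rw [h1]
    exact congrArg (fun t => z ≫ _ ≫ t) pullback.condition.symm
  · rintro H X y g ⟨z, rfl⟩ hy
    have w : (z ≫ p.left) ≫ G.hom = (y ≫ f) ≫ v := by rw [Category.assoc, Category.assoc, hy, Category.assoc]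
    rw [pt_down v h y _ w]
    have w' : z ≫ P.hom = (y ≫ f) ≫ v := by rw [← w, Category.assoc, Over.w p]
    refine H X y _ ⟨pullback.lift z (y ≫ f) w', ?_⟩ (pullback.lift_snd _ _ _).symm
    apply pullback.hom_ext
    · rw [Category.assoc, hfst, pullback.lift_fst_assoc, pullback.lift_fst]
    · rw [Category.assoc, hsnd, pullback.lift_snd, pullback.lift_snd]

/-- **A class whose members are étale locally one of finitely many subgroups.** -/
theorem exists_rep_fin (𝒬 : SubClass G) (hloc : 𝒬.IsLocal (fun {_ _ _} q => EtCov q)) {κ : Type u}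
    {Q : κ → Over S} [∀ k, GrpObj (Q k)] (q : ∀ k, Q k ⟶ G) (hm : ∀ k, IsMonHom (q k))
    (hc : ∀ k, IsClosedImmersion (q k).left)
    (hq : ∀ (k : κ) {S' : Scheme.{u}} (f : S' ⟶ S), 𝒬.Q f ((Over.pullback f).map (q k)))
    (hcov : ∀ {S' : Scheme.{u}} (f : S' ⟶ S) {H : Over S'} [GrpObj H] (h : H ⟶ Red.bc f G), 𝒬.Q f h →
      ∀ s : S', ∃ (V : Scheme.{u}) (π : V ⟶ S'), Etale π ∧ s ∈ Set.range π ∧ ∃ k : κ,
        ∀ (X : Scheme.{u}) (y : X ⟶ V) (g : X ⟶ G.left), Pt h (y ≫ π) g ↔
          (PtG (q k) g ∧ (y ≫ π) ≫ f = g ≫ G.hom))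
    (hdisj : ∀ (k k' : κ) {S' : Scheme.{u}} (f : S' ⟶ S), Nonempty S' →
      (∀ (X : Scheme.{u}) (y : X ⟶ S') (g : X ⟶ G.left), y ≫ f = g ≫ G.hom → (PtG (q k) g ↔ PtG (q k') g)) →
        k = k') :
    Nonempty (𝒬.subsF.RepresentableBy (sig fun _ : κ => Over.mk (𝟙 S))) := by
  have r : ∀ k, Nonempty ((single (q k)).subsF.RepresentableBy (Over.mk (𝟙 S))) := fun k => by
    have := hm k
    have := hc k
    exact representableBy_single (q k)
  refine exists_representableBy_union (J := κ) (𝒬' := fun k => single (q k)) hloc ?_ ?_ ?_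
    (fun _ => Over.mk (𝟙 S)) (fun k => (r k).some)
  · intro k S' f H _ h hh
    have h1 := hm k
    have h2 := hc k
    have h3 := hh.1
    have h4 := hh.2.1
    have h5 : Mono h := Sga3C.ClosedSub.mono_of_left h
    refine 𝒬.of_pt rfl (fun X y g => ?_) (hq k f)
    rw [hh.2.2]
    exact pt_pullback f (q k) y g
  · intro S' f H _ h hQ s
    obtain ⟨V, π, h1, h2, k, h3⟩ := hcov f h hQ s
    have h4 := 𝒬.isMonHom hQ
    have h5 := 𝒬.isClosedImmersion hQ
    refine ⟨V, π, h1, h2, k, isMonHom_bcSub π h, isClosedImmersion_bcSub π h, fun X y g => ?_⟩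
    rw [pt_bcSub, h3, Category.assoc]
  · intro k k' S' f H _ h hne hk hk'
    refine hdisj k k' f hne fun X y g hy => ?_
    have h1 := hk.2.2 X y g
    have h2 := hk'.2.2 X y g
    rw [h1] at h2
    constructor
    · intro h3
      exact (h2.1 ⟨h3, hy⟩).1
    · intro h3
      exact (h2.2 ⟨h3, hy⟩).1

instance isFinite_sig {κ : Type u} [Finite κ] : IsFinite (sig fun _ : κ => Over.mk (𝟙 S)).hom :=
  Sga1.SigmaFinite.isFinite_sigmaDesc (fun _ : κ => 𝟙 S)

theorem etale_sig {κ : Type u} : Etale (sig fun _ : κ => Over.mk (𝟙 S)).hom :=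
  IsZariskiLocalAtSource.sigmaDesc (P := @Etale) fun _ => inferInstanceAs (Etale (𝟙 S))

end K843.Above
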