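import Groth.Agent.CanPar.K843.AbovePar
import Groth.Agent.RedSub.K197.Isog
import Groth.Agent.Sga3B.SplitFin885
import Groth.Agent.Sga3B.TorQA602

/-!
# The finite étale scheme of the parabolic subgroups containing a given one
-/

set_option autoImplicit false
universe u

open CategoryTheory CategoryTheory.Limits AlgebraicGeometry Opposite MonoidalCategory CartesianMonoidalCategory
  MonObj GrpObj

namespace K843.Above

open Groth.Agent Groth.Agent.Sga3B Groth.Agent.Sga3B.BcPts Groth.Agent.Sga3B.MT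
open Groth.Agent.RedSub.H647.SubPt Groth.Agent.RedSub.H647.SubF Groth.Agent.RedSub.H647.SubF.SubClass
open Groth.Agent.RedSub.H660.ConjRep Groth.Agent.RedSub.H660.Restrict Groth.Agent.RedSub.H660.FinCop
open Groth.Agent.Sga3B.Parab Groth.Agent.Sga3B.Par Groth.Agent.RedSub.H660.Classes
open K795.ParExt

variable {S : Scheme.{u}} {G : Over S} [GrpObj G]

/-- the class of the parabolic subgroups containing `p` -/
def parAbove (hG : Red.IsReductive G) {P : Over S} (p : P ⟶ G) : SubClass G :=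
  aboveClass (good_isParabolic.toClass hG) p

theorem parAbove_Q (hG : Red.IsReductive G) {P : Over S} (p : P ⟶ G) {S' : Scheme.{u}} (f : S' ⟶ S) {H : Over S'}
    [GrpObj H] (h : H ⟶ Red.bc f G) : (parAbove hG p).Q f h ↔ Red.IsParabolic h ∧
      ∀ (X : Scheme.{u}) (y : X ⟶ S') (g : X ⟶ G.left), PtG p g → y ≫ f = g ≫ G.hom → Pt h y g := Iff.rfl

theorem restrict_parAbove_Q (hG : Red.IsReductive G) {P : Over S} (p : P ⟶ G) {V : Scheme.{u}} (v : V ⟶ S)
    {S' : Scheme.{u}} (f : S' ⟶ V) {H : Over S'} [GrpObj H] (h : H ⟶ Red.bc f (Red.bc v G)) :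
    (restrict v (parAbove hG p)).Q f h ↔ Red.IsParabolic h ∧
      ∀ (X : Scheme.{u}) (y : X ⟶ S') (g : X ⟶ (Red.bc v G).left), PtG ((Over.pullback v).map p) g →
        y ≫ f = g ≫ (Red.bc v G).hom → Pt h y g := by
  rw [← restrict_above_iff v f h p]
  exact and_congr (good_isParabolic.down_iff v h) Iff.rfl

theorem exists_local (hG : Red.IsReductive G) {P : Over S} [GrpObj P] (p : P ⟶ G) (hp : Red.IsParabolic p) (s : S) :
    ∃ (V : Scheme.{u}) (v : V ⟶ S), Etale v ∧ s ∈ Set.range v ∧ ∃ A' : Over V,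
      Nonempty (((Over.map v).op ⋙ (parAbove hG p).subsF).RepresentableBy A') ∧
      (∀ U : A'.left.Opens, IsCompact (U : Set A'.left) → (U : Scheme.{u}).IsQuasiAffine) ∧
      IsFinite A'.hom ∧ Etale A'.hom := by
  have hloc : (parAbove hG p).IsLocal (fun {_ _ _} q => EtCov q) :=
    aboveClass_isLocal (good_isParabolic.toClass_isLocal hG) p
  obtain ⟨S', f, hf, ⟨s', hs'⟩, D, t, x, h1, h2⟩ :=
    PcS150.pcS Uncond688.pcPStmt SplitFin885.splitTStmt hG p hp s
  let L : LD f p := ⟨D, x, t, h1, h2⟩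
  let r : Spec (S'.affineOpenCover.X (S'.affineOpenCover.idx s')) ⟶ S' :=
    S'.affineOpenCover.f (S'.affineOpenCover.idx s')
  have h3 : s' ∈ Set.range r := S'.affineOpenCover.covers s'
  have h4 : IsOpenImmersion r := S'.affineOpenCover.map_prop _
  obtain ⟨s'', hs''⟩ := h3
  obtain ⟨L', -⟩ := L.exists_bc r
  have hne : Nonempty (Spec (S'.affineOpenCover.X (S'.affineOpenCover.idx s'))) := ⟨s''⟩
  obtain ⟨κ, hκ, hrep⟩ := exists_rep_std L'.D L'.x L'.dyn (restrict (r ≫ f) (parAbove hG p))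
    (restrict_isLocal (r ≫ f) hloc) (fun f' H _ h => restrict_parAbove_Q hG p (r ≫ f) f' h)
  refine ⟨_, r ≫ f, inferInstance, ⟨s'', by rw [Scheme.Hom.comp_apply, hs'', hs']⟩,
    sig fun _ : κ => Over.mk (𝟙 _), representableBy_restrict (r ≫ f) hrep, ?_, isFinite_sig, etale_sig⟩
  intro U hU
  have hfin : IsFinite (sig fun _ : κ => Over.mk (𝟙 (Spec (S'.affineOpenCover.X (S'.affineOpenCover.idx s'))))).hom :=
    isFinite_sig
  have haff : IsAffine (sig fun _ : κ =>
      Over.mk (𝟙 (Spec (S'.affineOpenCover.X (S'.affineOpenCover.idx s'))))).left :=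
    isAffine_of_isAffineHom (sig fun _ : κ =>
      Over.mk (𝟙 (Spec (S'.affineOpenCover.X (S'.affineOpenCover.idx s'))))).hom
  have : CompactSpace U := isCompact_iff_compactSpace.1 hU
  exact TorQA602.isQuasiAffine_of_isOpenImmersion U.ι

/-- **The finite étale scheme of the parabolic subgroups containing `P`.** -/
theorem exists_above (hG : Red.IsReductive G) {P : Over S} [GrpObj P] (p : P ⟶ G) (hp : Red.IsParabolic p) :
    ∃ (E : Over S) (H : Over E.left) (_ : GrpObj H) (h : H ⟶ Red.bc E.hom G),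
      (parAbove hG p).Represents E h ∧ IsFinite E.hom ∧ Etale E.hom := by
  have hloc : (parAbove hG p).IsLocal (fun {_ _ _} q => EtCov q) :=
    aboveClass_isLocal (good_isParabolic.toClass_isLocal hG) p
  obtain ⟨E, H, _, h, hE, ⟨r⟩⟩ := (parAbove hG p).exists_represents_of_etale hloc fun s => by
    obtain ⟨V, v, h1, h2, A', h3, h4, -⟩ := exists_local hG p hp s
    exact ⟨V, v, h1, h2, A', h3, h4⟩
  refine ⟨E, H, _, h, hE, ?_, ?_⟩
  · refine (parAbove hG p).prop_of_representableBy @IsFinite r fun s => ?_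
    obtain ⟨V, v, h1, h2, A', h3, -, h5, -⟩ := exists_local hG p hp s
    exact ⟨V, v, h1, h2, A', h3, h5⟩
  · refine (parAbove hG p).prop_of_representableBy @Etale r fun s => ?_
    obtain ⟨V, v, h1, h2, A', h3, -, -, h5⟩ := exists_local hG p hp s
    exact ⟨V, v, h1, h2, A', h3, h5⟩

end K843.Above
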