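import Groth.Agent.CanPar.K843.Above
import Groth.Agent.Sga3B.Par.LevFin622
import Groth.Agent.RedSub.H657.TrBorel

/-!
# The scheme of the parabolic subgroups containing a given parabolic subgroup

`exists_above` : let `p : P ⟶ G` be a parabolic subgroup of a reductive group over `S`.  The functor of the parabolic
subgroups of `G` containing `P` is represented by a finite étale `S`-scheme.
-/

set_option autoImplicit false
universe u

open CategoryTheory CategoryTheory.Limits AlgebraicGeometry Opposite MonoidalCategory CartesianMonoidalCategory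
  MonObj GrpObj

namespace K843.Above

open Groth.Agent Groth.Agent.Sga3B Groth.Agent.Sga3B.BcPts Groth.Agent.Sga3B.MT
open Groth.Agent.RedSub.H647.SubPt Groth.Agent.RedSub.H647.SubF Groth.Agent.RedSub.H647.SubF.SubClass
open Groth.Agent.RedSub.H660.ConjRep Groth.Agent.RedSub.H660.Restrict Groth.Agent.RedSub.H660.FinCop
open Groth.Agent.Sga3B.Parab Groth.Agent.Sga3B.Par Groth.Agent.Sga3B.Parab.ConjPt
open Groth.Agent.RedSub.H660.TypeGeom Groth.Agent.RedSub.H645.EtConj Groth.Agent.RedSub.H660.Types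
open Groth.Agent.RedSub.H660.ParRep Groth.Agent.RedSub.H660.Classes
open K795.ParExt

variable {S : Scheme.{u}} {G : Over S}

theorem mem_iff_ptG {Q : Over S} (q : Q ⟶ G) {X : Over S} (g : X ⟶ G) :
    ConjPt.Mem q g ↔ PtG q g.left := by
  constructor
  · rintro ⟨z, rfl⟩
    exact ⟨z.left, rfl⟩
  · rintro ⟨z, hz⟩
    refine ⟨Over.homMk z ?_, ?_⟩
    · rw [← Over.w q, ← Category.assoc, hz, Over.w]
    · ext
      exact hz

theorem pt_iff_mem {S' : Scheme.{u}} {f : S' ⟶ S} {H : Over S'} (h : H ⟶ Red.bc f G) {X : Scheme.{u}}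
    (y : X ⟶ S') (g : X ⟶ G.left) (w : g ≫ G.hom = y ≫ f) :
    Pt h y g ↔ ConjPt.Mem h (Over.homMk (pullback.lift g y w) (pullback.lift_snd _ _ _) :
      Over.mk y ⟶ Red.bc f G) := by
  rw [pt_iff_lift h y g w, mem_iff_ptG]
  rfl

variable [GrpObj G]

/-- Containment of standard parabolic subgroups over a nonempty scheme. -/
theorem supp_subset (D : Red.SplitRed G) {x y : Module.Dual ℤ D.M} {P Q : Over S} [GrpObj P] [GrpObj Q]
    {p : P ⟶ G} {q : Q ⟶ G} (hp : IsDynP (coch D x) p) (hq : IsDynP (coch D y) q) {T : Scheme.{u}}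
    (f : T ⟶ S) (hT : Nonempty T)
    (h : ∀ (X : Scheme.{u}) (r : X ⟶ T) (g : X ⟶ G.left), r ≫ f = g ≫ G.hom → PtG p g → PtG q g) :
    supp D x ⊆ supp D y := by
  obtain ⟨t⟩ := hT
  let C := T.residueField t
  let c₀ : Spec (CommRingCat.of C) ⟶ S := T.fromSpecResidueField t ≫ f
  intro a ha
  change 0 ≤ y (D.P.root a)
  obtain ⟨v, hv⟩ := exists_u D x hp a ha
  refine nonneg_of_mem (C := C) (c := c₀) D y hq a ?_
  rw [mem_iff_ptG]
  refine h _ (T.fromSpecResidueField t) _ ?_ ?_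
  · exact (Over.w (GaPts.gaPt (aff C c₀) 1 ≫ D.u a)).symm
  · rw [← mem_iff_ptG]
    exact ⟨GaPts.gaPt _ 1 ≫ v, by rw [Category.assoc, hv]⟩

/-- **Parabolic subgroups containing a standard one are étale locally standard.** -/
theorem exists_std (D : Red.SplitRed G) {rho : Module.Dual ℤ D.M} (hrho : ∀ a, rho (D.P.root a) ≠ 0)
    {x : Module.Dual ℤ D.M} (hx : Dom D rho x) {P : Over S} [GrpObj P] {p : P ⟶ G} (hp : IsDynP (coch D x) p)
    {S' : Scheme.{u}} (f : S' ⟶ S) {H : Over S'} [GrpObj H] (h : H ⟶ Red.bc f G) (hh : Red.IsParabolic h)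
    (hle : ∀ (X : Scheme.{u}) (y : X ⟶ S') (g : X ⟶ G.left), PtG p g → y ≫ f = g ≫ G.hom → Pt h y g) (s : S') :
    ∃ z : Module.Dual ℤ D.M, Dom D rho z ∧ supp D x ⊆ supp D z ∧ ∀ y' : Module.Dual ℤ D.M,
      supp D y' = supp D z → ∀ {Q : Over S} [GrpObj Q] (q : Q ⟶ G), IsDynP (coch D y') q →
        ∃ (U : Scheme.{u}) (π : U ⟶ S'), Etale π ∧ s ∈ Set.range π ∧ ∀ (X : Scheme.{u}) (a : X ⟶ U)
          (g : X ⟶ G.left), Pt h (a ≫ π) g ↔ (PtG q g ∧ (a ≫ π) ≫ f = g ≫ G.hom) := by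
  have hGa : IsAffineHom G.hom := D.reductive.1
  have hGf : Red.IsReductive (Red.bc f G) := RedBcAny636.isReductive_bc f D.reductive
  obtain ⟨B, _, b, hb, -⟩ := DynExist998.exists_isDynP (coch D rho)
  have hB := RedSub.H634.BorelStd.isBorel_of_isDynP D rho hrho hb
  have hBf := RedSub.H648.BorBc.isBorel_bc f D.reductive hB
  have hdom : ∀ {z : Module.Dual ℤ D.M}, Dom D rho z → ∀ a, 0 ≤ rho (D.P.root a) → 0 ≤ z (D.P.root a) :=
    fun hz a ha => hz a (lt_of_le_of_ne ha (Ne.symm (hrho a)))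
  obtain ⟨z, hz, hz'⟩ := exists_type_bc D hrho f h hh s
  have key : ∀ y' : Module.Dual ℤ D.M,
      supp D y' = supp D z → ∀ {Q : Over S} [GrpObj Q] (q : Q ⟶ G), IsDynP (coch D y') q →
        ∃ (U : Scheme.{u}) (π : U ⟶ S'), Etale π ∧ s ∈ Set.range π ∧ ∀ (X : Scheme.{u}) (a : X ⟶ U)
          (g : X ⟶ G.left), Pt h (a ≫ π) g ↔ (PtG q g ∧ (a ≫ π) ≫ f = g ≫ G.hom) := by
    intro y' hy' Q _ q hq
    obtain ⟨U, π, h1, h2, c, hc⟩ := hz' y' hy' q hq
    have hpm := hq.isMonHom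
    have hy0 : ∀ a, 0 ≤ rho (D.P.root a) → 0 ≤ y' (D.P.root a) := fun a ha => by
      have h3 : a ∈ supp D z := hdom hz a ha
      rw [← hy'] at h3
      exact h3
    obtain ⟨k, hk⟩ := RedSub.H657.TrBorel.inP_of_conjEq hGf ((Over.pullback f).map q)
      (good_isParabolic.bc f D.reductive (isParabolic_of_isDynP D y' hq)) h ((Over.pullback f).map b) hBf
      (by
        obtain ⟨u, hu⟩ := exists_le hy0 hb hq
        exact ⟨(Over.pullback f).map u, by rw [← Functor.map_comp, hu]⟩)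
      (by
        obtain ⟨u, hu⟩ := exists_le (hdom hx) hb hp
        refine exists_fac_of_pt _ _ fun Z y g hg => ?_
        rw [pt_pullback] at hg
        obtain ⟨⟨w, rfl⟩, hg2⟩ := hg
        refine hle Z y _ ⟨w ≫ u.left, ?_⟩ hg2
        rw [Category.assoc, ← Over.comp_left, hu]) c ((RedSub.H645.ConjEqIff.conjEq_iff c).2 hc)
    have hmem : ∀ (X : Over S') (r : X ⟶ Over.mk π) (g : X ⟶ Red.bc f G),
        ConjPt.Mem ((Over.pullback f).map q) g ↔ ConjPt.Mem h g := by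
      intro X r g
      have h1 := hc X r ((r ≫ c)⁻¹ * g * (r ≫ c))
      have h2 := conj_of_mem ((Over.pullback f).map q) ⟨k, hk⟩ X r ((r ≫ c)⁻¹ * g * (r ≫ c))
      have e : (r ≫ c) * ((r ≫ c)⁻¹ * g * (r ≫ c)) * (r ≫ c)⁻¹ = g := by group
      rw [e] at h1 h2
      rw [← h2, h1]
    refine ⟨U, π, h1, h2, fun X a g => ?_⟩
    by_cases w : g ≫ G.hom = (a ≫ π) ≫ f
    · rw [pt_iff_mem h (a ≫ π) g w, ← hmem _ (Over.homMk a), ← pt_iff_mem, pt_pullback]
    · constructor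
      · intro h3
        exact (w h3.w.symm).elim
      · intro h3
        exact (w h3.2.symm).elim
  refine ⟨z, hz, ?_, key⟩
  obtain ⟨Q, _, q, hq, -⟩ := DynExist998.exists_isDynP (coch D z)
  obtain ⟨U, π, h1, ⟨u, -⟩, h2⟩ := key z rfl q hq
  refine supp_subset D hp hq (π ≫ f) ⟨u⟩ fun X r g hr hg => ?_
  exact ((h2 X r g).1 (hle X (r ≫ π) g hg (by rw [← hr, Category.assoc]))).1

/-- a regular coweight for which a given coweight is dominant -/
theorem exists_regular_dom [Nonempty S] (D : Red.SplitRed G) (x : Module.Dual ℤ D.M) :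
    ∃ rho : Module.Dual ℤ D.M, (∀ a, rho (D.P.root a) ≠ 0) ∧ Dom D rho x := by
  classical
  obtain ⟨r, hr⟩ := exists_regular D
  obtain ⟨N, hN⟩ : ∃ N : ℤ, ∀ a, |r (D.P.root a)| < N := by
    refine ⟨(∑ a, |r (D.P.root a)|) + 1, fun a => ?_⟩
    have := Finset.single_le_sum (f := fun a => |r (D.P.root a)|) (fun i _ => abs_nonneg _) (Finset.mem_univ a)
    exact lt_of_le_of_lt this (lt_add_one _)
  have key : ∀ a, x (D.P.root a) ≠ 0 → (0 < x (D.P.root a) → 0 < N * x (D.P.root a) + r (D.P.root a)) ∧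
      (x (D.P.root a) < 0 → N * x (D.P.root a) + r (D.P.root a) < 0) := by
    intro a ha
    have h1 := abs_lt.1 (hN a)
    have hN0 : 0 < N := lt_of_le_of_lt (abs_nonneg _) (hN a)
    constructor
    · intro h2
      nlinarith
    · intro h2
      nlinarith
  refine ⟨N • x + r, fun a => ?_, fun a ha => ?_⟩
  · change N * x (D.P.root a) + r (D.P.root a) ≠ 0
    rcases lt_trichotomy (x (D.P.root a)) 0 with h | h | h
    · exact ((key a h.ne).2 h).ne
    · rw [h, mul_zero, zero_add]; exact hr a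
    · exact ((key a h.ne').1 h).ne'
  · by_contra h
    push Not at h
    have ha' : 0 < N * x (D.P.root a) + r (D.P.root a) := ha
    have := (key a h.ne).2 h
    omega

/-- **Representability in the standard case.** -/
theorem exists_rep_std [Nonempty S] (D : Red.SplitRed G) (x : Module.Dual ℤ D.M) {P : Over S} [GrpObj P] {p : P ⟶ G}
    (hp : IsDynP (coch D x) p) (𝒬 : SubClass G) (hloc : 𝒬.IsLocal (fun {_ _ _} q => EtCov q))
    (h𝒬 : ∀ {S' : Scheme.{u}} (f : S' ⟶ S) {H : Over S'} [GrpObj H] (h : H ⟶ Red.bc f G), 𝒬.Q f h ↔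
      Red.IsParabolic h ∧ ∀ (X : Scheme.{u}) (y : X ⟶ S') (g : X ⟶ G.left), PtG p g →
        y ≫ f = g ≫ G.hom → Pt h y g) :
    ∃ (κ : Type u) (_ : Finite κ), Nonempty (𝒬.subsF.RepresentableBy (sig fun _ : κ => Over.mk (𝟙 S))) := by
  classical
  have hGa : IsAffineHom G.hom := D.reductive.1
  obtain ⟨rho, hrho, hdom⟩ := exists_regular_dom D x
  let κ : Type u := ULift.{u} {j : Ty D rho // supp D x ⊆ j.1}
  choose c hcd hcs using fun j : Ty D rho => j.2
  choose Q gQ q hq hcl using fun j : Ty D rho => DynExist998.exists_isDynP (coch D (c j))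
  have hpar : ∀ j, Red.IsParabolic (q j) := fun j => isParabolic_of_isDynP D _ (hq j)
  refine ⟨κ, inferInstance, exists_rep_fin 𝒬 hloc (fun k : κ => q k.down.1) (fun k => (hq _).isMonHom)
    (fun k => hcl _) ?_ ?_ ?_⟩
  · intro k S' f
    refine (h𝒬 f _).2 ⟨good_isParabolic.bc f D.reductive (hpar _), fun X y g hg hy => ?_⟩
    refine (pt_pullback f _ y g).2 ⟨?_, hy⟩
    have h1 : ∀ a, 0 ≤ x (D.P.root a) → 0 ≤ c k.down.1 (D.P.root a) := fun a ha => by
      have h2 : a ∈ k.down.1.1 := k.down.2 ha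
      rw [← hcs] at h2
      exact h2
    obtain ⟨u, hu⟩ := exists_le h1 hp (hq k.down.1)
    obtain ⟨w, rfl⟩ := hg
    exact ⟨w ≫ u.left, by rw [Category.assoc, ← Over.comp_left, hu]⟩
  · intro S' f H _ h hh s
    obtain ⟨h1, h2⟩ := (h𝒬 f h).1 hh
    obtain ⟨z, hz, hxz, hz'⟩ := exists_std D hrho hdom hp f h h1 h2 s
    let j : Ty D rho := ⟨supp D z, z, hz, rfl⟩
    obtain ⟨U, π, h3, h4, h5⟩ := hz' (c j) (hcs j) (q j) (hq j)
    exact ⟨U, π, h3, h4, ⟨⟨j, hxz⟩⟩, h5⟩
  · intro k k' S' f hne hh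
    have e1 := supp_subset D (hq k.down.1) (hq k'.down.1) f hne fun X r g hr => (hh X r g hr).1
    have e2 := supp_subset D (hq k'.down.1) (hq k.down.1) f hne fun X r g hr => (hh X r g hr).2
    have e3 := Set.Subset.antisymm e1 e2
    rw [hcs, hcs] at e3
    exact ULift.ext _ _ (Subtype.ext (Subtype.ext e3))

end K843.Above
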