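import Groth.Agent.CanPar.K843.FlatRank
import Groth.Agent.CanPar.K795.CurveBound
import Groth.Agent.CanPar.K795.FibreRank
import Groth.Agent.Curves.K321.SubLoc
import Groth.Agent.CycB.CohProp
import Groth.Agent.FormalA.PullbackQC
import Groth.Agent.PerfA.CohSerre
import Groth.Agent.PerfA.QCohEpi
import Groth.Agent.PerfB.StructFlat
import Groth.Agent.PerfC.PullRestrict
import Groth.Agent.S1026
import Groth.Agent.S0018

/-!
# Comparison of quotients on the generic and on the closed fibre of a curve over a discrete valuation ring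
-/

set_option autoImplicit false
universe u

open CategoryTheory CategoryTheory.Limits AlgebraicGeometry TopologicalSpace IsLocalRing

namespace K843.Compare

open Groth.Agent Groth.Agent.VarietyA.DegRank K795.GenFib K795.CurveBound K843.CurveFib K843.FlatRank

theorem exists_desc {A B : Type*} [Category A] [Category B] [Abelian A] [Abelian B] (L : A ⥤ B) [L.Additive]
    [PreservesFiniteColimits L] {F W : A} (ρ : F ⟶ W) [Epi ρ] {E₀ : B} (π₀ : L.obj F ⟶ E₀)
    (h : L.map (kernel.ι ρ) ≫ π₀ = 0) : ∃ τ : L.obj W ⟶ E₀, L.map ρ ≫ τ = π₀ := by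
  have hl : IsColimit (CokernelCofork.ofπ ρ (kernel.condition ρ)) :=
    Abelian.epiIsCokernelOfKernel _ (limit.isLimit _)
  have hl' := isColimitCoforkMapOfIsColimit' L (kernel.condition ρ) hl
  exact ⟨hl'.desc (CokernelCofork.ofπ π₀ h), hl'.fac (CokernelCofork.ofπ π₀ h) WalkingParallelPair.one⟩

variable {R : Type u} [CommRing R] [IsDomain R] [IsDiscreteValuationRing R]
  {X : Scheme.{u}} (p : X ⟶ Spec (CommRingCat.of R)) [Smooth p] [IsProper p]

/-- Constancy of the Euler characteristic. -/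
theorem euler_const {W : X.Modules} (hW : Coh.IsCoh W) (hfl : FlatMod.IsFlatOver p W)
    (s t : Spec (CommRingCat.of R)) : PerfAux.eulerChar p W s = PerfAux.eulerChar p W t := by
  have : IsLocallyNoetherian X := LocallyOfFiniteType.isLocallyNoetherian p
  have hFP : CohB1.IsFP W := (S0018.result X W).1 hW
  exact (S1026.result p W hFP hfl).apply_eq_of_preconnectedSpace s t

/-- Degree on the fibre. -/
noncomputable abbrev dgF (s : Spec (CommRingCat.of R)) [IrreducibleSpace (p.fiber s)] (F : (p.fiber s).Modules) : ℤ :=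
  @dg ((Spec (CommRingCat.of R)).residueField s) _ (p.fiber s) ⟨p.fiberToSpecResidueField s⟩ _ F

theorem euler_fib (W : X.Modules) (s : Spec (CommRingCat.of R)) :
    @Curv2.euler ((Spec (CommRingCat.of R)).residueField s) _ (p.fiber s) ⟨p.fiberToSpecResidueField s⟩
      ((Scheme.Modules.pullback (p.fiberι s)).obj W) = PerfAux.eulerChar p W s := rfl

theorem euler_struct (s : Spec (CommRingCat.of R)) :
    @Curv2.euler ((Spec (CommRingCat.of R)).residueField s) _ (p.fiber s) ⟨p.fiberToSpecResidueField s⟩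
      (Coh.structureModule (p.fiber s)) = PerfAux.eulerChar p (Coh.structureModule X) s := by
  letI : (p.fiber s).Over (Spec (CommRingCat.of ((Spec (CommRingCat.of R)).residueField s))) :=
    ⟨p.fiberToSpecResidueField s⟩
  rw [← euler_fib]
  exact (euler_iso _ (PerfC.PullRestrict.pullbackUnit (p.fiberι s))).symm

variable [GeometricallyConnected p]

theorem dgF_flat [IsIntegral (p.fiber (cpt R))] [IsIntegral (p.fiber (gpt R))] {W : X.Modules}
    (hW : Coh.IsCoh W) (hfl : FlatMod.IsFlatOver p W) :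
    dgF p (cpt R) ((Scheme.Modules.pullback (p.fiberι (cpt R))).obj W) =
      dgF p (gpt R) ((Scheme.Modules.pullback (p.fiberι (gpt R))).obj W) := by
  have : IsLocallyNoetherian X := LocallyOfFiniteType.isLocallyNoetherian p
  have e1 := euler_const p hW hfl (cpt R) (gpt R)
  have e2 := euler_const p (W := Coh.structureModule X)
    (PerfA.CohSerre.isCoh_of_isFinLocFree PerfB.StructFlat.isFinLocFree_structure)
    (K795.FibreRank.isFlatOver_of_isFinLocFree p PerfB.StructFlat.isFinLocFree_structure) (cpt R) (gpt R)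
  have e3 := rk_flat p hW hfl
  rw [dgF, dgF, dg, dg, euler_fib, euler_fib, euler_struct, euler_struct, e1, e2, e3]

theorem exists_flat_quotient {F : X.Modules} (hF : Coh.IsCoh F) {E : (p.fiber (gpt R)).Modules} (hE : Coh.IsQCoh E)
    (π : (Scheme.Modules.pullback (p.fiberι (gpt R))).obj F ⟶ E) [Epi π] :
    ∃ (W : X.Modules) (ρ : F ⟶ W) (e : (Scheme.Modules.pullback (p.fiberι (gpt R))).obj W ≅ E),
      Epi ρ ∧ Coh.IsCoh W ∧ FlatMod.IsFlatOver p W ∧
        (Scheme.Modules.pullback (p.fiberι (gpt R))).map ρ ≫ e.hom = π := by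
  have : IsLocallyNoetherian X := LocallyOfFiniteType.isLocallyNoetherian p
  have := isOpenImmersion_fiberι R p
  have hg : genericPoint (Spec (CommRingCat.of R)) = gpt R := genericPoint_eq_bot_of_affine (CommRingCat.of R)
  obtain ⟨W, ρ, e, h1, h2, h3, h4⟩ := K108.GenQuotOf.exists_quotient_of
    (K108.GenQuotOf.stalk_dedekind R) p (p.fiberι (gpt R))
    (p.fiberι (gpt R)).isOpenEmbedding.isInducing (fun z => (ConcreteCategory.bijective_of_isIso
      ((p.fiberι (gpt R)).stalkMap z)).2)
    (fun z => by rw [CycB.FiberKer.apply_fiberι]; exact hg.symm) F hF.1 E hE π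
  exact ⟨W, ρ, e, h1, CycB.CohProp.isCoh_of_epi ρ hF h2, h3, h4⟩

/-- Comparison of quotients. -/
theorem compare (hdim : ∀ s : Spec (CommRingCat.of R), topologicalKrullDim (p.fiber s) = 1)
    [IsIntegral (p.fiber (cpt R))] [IsIntegral (p.fiber (gpt R))]
    {F : X.Modules} (hF : Coh.IsCoh F) {E : (p.fiber (gpt R)).Modules} (hE : Coh.IsQCoh E)
    (π : (Scheme.Modules.pullback (p.fiberι (gpt R))).obj F ⟶ E) [Epi π]
    {E₀ : (p.fiber (cpt R)).Modules} (hE₀ : Coh.IsCoh E₀)
    (π₀ : (Scheme.Modules.pullback (p.fiberι (cpt R))).obj F ⟶ E₀) [Epi π₀]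
    (hrk : rk E = rk E₀)
    (hkill : ∀ {N : X.Modules} (k : N ⟶ F), (Scheme.Modules.pullback (p.fiberι (gpt R))).map k ≫ π = 0 →
      (Scheme.Modules.pullback (p.fiberι (cpt R))).map k ≫ π₀ = 0) :
    ∃ (W : X.Modules) (ρ : F ⟶ W) (e : (Scheme.Modules.pullback (p.fiberι (gpt R))).obj W ≅ E)
      (τ : (Scheme.Modules.pullback (p.fiberι (cpt R))).obj W ⟶ E₀),
      Epi ρ ∧ Coh.IsCoh W ∧ FlatMod.IsFlatOver p W ∧
        (Scheme.Modules.pullback (p.fiberι (gpt R))).map ρ ≫ e.hom = π ∧
        (Scheme.Modules.pullback (p.fiberι (cpt R))).map ρ ≫ τ = π₀ ∧ Epi τ ∧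
        dgF p (cpt R) E₀ ≤ dgF p (gpt R) E ∧
        (dgF p (cpt R) E₀ = dgF p (gpt R) E → IsIso τ) := by
  obtain ⟨W, ρ, e, h1, h2, h3, h4⟩ := exists_flat_quotient p hF hE π
  have hk : (Scheme.Modules.pullback (p.fiberι (gpt R))).map (kernel.ι ρ) ≫ π = 0 := by
    rw [← h4, ← Category.assoc, ← Functor.map_comp, kernel.condition, Functor.map_zero, zero_comp]
  obtain ⟨τ, hτ⟩ := exists_desc (Scheme.Modules.pullback (p.fiberι (cpt R))) ρ π₀ (hkill _ hk)
  have hτe : Epi τ := by
    have : Epi ((Scheme.Modules.pullback (p.fiberι (cpt R))).map ρ ≫ τ) := by rw [hτ]; infer_instance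
    exact epi_of_epi ((Scheme.Modules.pullback (p.fiberι (cpt R))).map ρ) τ
  letI : (p.fiber (cpt R)).Over
      (Spec (CommRingCat.of ((Spec (CommRingCat.of R)).residueField (cpt R)))) :=
    ⟨p.fiberToSpecResidueField (cpt R)⟩
  haveI : IsProper ((p.fiber (cpt R)) ↘
      (Spec (CommRingCat.of ((Spec (CommRingCat.of R)).residueField (cpt R))))) :=
    isProper_fiber p (cpt R)
  have : IsLocallyNoetherian X := LocallyOfFiniteType.isLocallyNoetherian p
  have : IsLocallyNoetherian (p.fiber (cpt R)) := isLocallyNoetherian_fiber p _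
  have hW₀ : Coh.IsCoh ((Scheme.Modules.pullback (p.fiberι (cpt R))).obj W) := by
    exact Groth.Agent.FormalA.PullbackQC.isCoh_pullback _ _ h2
  let S : ShortComplex (p.fiber (cpt R)).Modules := ShortComplex.mk (kernel.ι τ) τ (kernel.condition τ)
  have hS : S.ShortExact :=
    { exact := ShortComplex.exact_of_f_is_kernel _ (kernelIsKernel τ) }
  have hT : Coh.IsCoh (kernel τ) := PerfA.CohSerre.isCoh_kernel τ hW₀ hE₀.1
  have r1 : rk ((Scheme.Modules.pullback (p.fiberι (cpt R))).obj W) = rk (kernel τ) + rk E₀ :=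
    rk_add S hS hW₀
  have r2 := rk_flat p h2 h3
  have r3 : rk ((Scheme.Modules.pullback (p.fiberι (gpt R))).obj W) = rk E := rk_iso e
  have r4 : rk (kernel τ) = 0 := by omega
  have d1 : dgF p (cpt R) ((Scheme.Modules.pullback (p.fiberι (cpt R))).obj W) =
      dgF p (cpt R) (kernel τ) + dgF p (cpt R) E₀ :=
    dg_add _ S hS hT hW₀ hE₀
  have d2 := dgF_flat p h2 h3
  have d3 : dgF p (gpt R) ((Scheme.Modules.pullback (p.fiberι (gpt R))).obj W) = dgF p (gpt R) E := by
    letI : (p.fiber (gpt R)).Over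
      (Spec (CommRingCat.of ((Spec (CommRingCat.of R)).residueField (gpt R)))) :=
      ⟨p.fiberToSpecResidueField (gpt R)⟩
    exact dg_iso _ e
  have d4 : dgF p (cpt R) (kernel τ) =
      Curv2.euler ((Spec (CommRingCat.of R)).residueField (cpt R)) (p.fiber (cpt R)) (kernel τ) := by
    rw [dgF, dg, r4]
    push_cast
    ring
  obtain ⟨n1, n2⟩ := K321.SubLoc.euler_nonneg ((Spec (CommRingCat.of R)).residueField (cpt R))
    (hdim (cpt R)).le hT r4
  refine ⟨W, ρ, e, τ, h1, h2, h3, h4, hτ, hτe, by linarith, fun heq => ?_⟩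
  have hz : IsZero (kernel τ) := n2 (by linarith)
  have hm : Mono τ := Preadditive.mono_of_isZero_kernel τ hz
  exact isIso_of_mono_of_epi τ

end K843.Compare
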