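import Groth.Agent.RegImm.K559.ConSeq
import Groth.Agent.OmegaSh.K583.ConMap
import Groth.Agent.CanPar.K795.OmQuot

/-!
# Conormal modules of a point in an intersection

`S ⟶ I = P ×_G Q`, `e_P : S ⟶ P`, `e_Q : S ⟶ Q`. If every relation in `C_{S/G}` which holds in `C_{S/P}` holds in
`C_{S/Q}` then `C_{S/Q} ⟶ C_{S/I}` is an isomorphism.
-/

set_option autoImplicit false
universe u

open CategoryTheory CategoryTheory.Limits AlgebraicGeometry

namespace K843.ConInter

open Groth.Agent.Grpsch.ConormalIso K795.ConComp K795.OmQuot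

variable {S G P Q I : Scheme.{u}}

theorem exact_seq {Z Y X : Scheme.{u}} (i : Y ⟶ X) (j : Z ⟶ Y) [IsPreimmersion i] [IsPreimmersion j]
    [QuasiCompact i] [QuasiCompact j] (w₁ : (j ≫ i) ≫ 𝟙 X = j ≫ i) (w₂ : j ≫ i = 𝟙 Z ≫ (j ≫ i)) :
    ∃ h0 : conormalMap w₁ ≫ ((Scheme.Modules.pullbackId Z).inv.app (Omega.conormal (j ≫ i)) ≫ conormalMap w₂) = 0,
    (ShortComplex.mk (conormalMap w₁) ((Scheme.Modules.pullbackId Z).inv.app
      (Omega.conormal (j ≫ i)) ≫ conormalMap w₂) h0).Exact ∧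
    Epi ((Scheme.Modules.pullbackId Z).inv.app (Omega.conormal (j ≫ i)) ≫ conormalMap w₂) :=
  ⟨K559.ConSeq.comp_zero (K583.ConMap.isConormalMap w₁) (K583.ConMap.isConormalMap w₂),
    K559.ConSeq.exact_epi (K583.ConMap.isConormalMap w₁) (K583.ConMap.isConormalMap w₂)⟩

theorem isIso_of_kills (p : P ⟶ G) (q : Q ⟶ G) (m : I ⟶ P) (m' : I ⟶ Q) (hI : IsPullback m' m q p)
    (eP : S ⟶ P) (eI : S ⟶ I) (h1 : eI ≫ m = eP)
    [IsPreimmersion p] [QuasiCompact p] [IsPreimmersion m'] [QuasiCompact m'] [IsPreimmersion eP]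
    [QuasiCompact eP] [IsPreimmersion eI] [QuasiCompact eI]
    (wP : eP ≫ p = 𝟙 S ≫ (eP ≫ p)) (wQ : (eI ≫ m') ≫ q = 𝟙 S ≫ (eP ≫ p)) (wI : eI ≫ m' = 𝟙 S ≫ (eI ≫ m'))
    (hk : ∀ {N : S.Modules} (k : N ⟶ (Scheme.Modules.pullback (𝟙 S)).obj (Omega.conormal (eP ≫ p))),
      k ≫ conormalMap wP = 0 → k ≫ conormalMap wQ = 0) :
    IsIso (conormalMap wI) := by
  have w1 : (eP ≫ p) ≫ 𝟙 G = eP ≫ p := Category.comp_id _
  obtain ⟨h0, -, -⟩ := exact_seq p eP w1 wP
  -- the composite `e_P^* C_{P/G} ⟶ C_{S/G} ⟶ C_{S/Q}` vanishes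
  have h2 : (conormalMap w1 ≫ (Scheme.Modules.pullbackId S).inv.app (Omega.conormal (eP ≫ p))) ≫
      conormalMap wQ = 0 := by
    apply hk
    rw [Category.assoc]
    exact h0
  have h3 : (Scheme.Modules.pullback (𝟙 S)).map (conormalMap w1) ≫ conormalMap wQ = 0 := by
    have h4 := (Scheme.Modules.pullbackId S).hom.naturality (conormalMap w1)
    have h5 : (Scheme.Modules.pullback (𝟙 S)).map (conormalMap w1) =
        (Scheme.Modules.pullbackId S).hom.app _ ≫ conormalMap w1 ≫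
          (Scheme.Modules.pullbackId S).inv.app (Omega.conormal (eP ≫ p)) := by
      rw [← Category.assoc]
      have h6 : (Scheme.Modules.pullbackId S).hom.app _ ≫ conormalMap w1 =
          (Scheme.Modules.pullback (𝟙 S)).map (conormalMap w1) ≫ (Scheme.Modules.pullbackId S).hom.app _ := h4.symm
      rw [h6, Category.assoc, Iso.hom_inv_id_app, Category.comp_id]
    rw [h5, Category.assoc, h2, comp_zero]
  have wA : (eI ≫ m') ≫ (q ≫ 𝟙 G) = (𝟙 S ≫ eP) ≫ p := by
    rw [Category.comp_id, Category.id_comp, wQ, Category.id_comp]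
  have h7 := conormalMap_comp w1 wQ wA
  have h8 : conormalMap wA = 0 := by
    rw [h3] at h7
    have h9 : Mono ((Scheme.Modules.pullbackComp (𝟙 S) eP).hom.app (Omega.conormal p)) := inferInstance
    exact (cancel_epi ((Scheme.Modules.pullbackComp (𝟙 S) eP).hom.app (Omega.conormal p))).1
      (h7.trans comp_zero.symm)
  -- the other way around
  have w4 : m' ≫ q = m ≫ p := hI.w
  have w5 : (eI ≫ m') ≫ 𝟙 Q = eI ≫ m' := Category.comp_id _
  have wB : (eI ≫ m') ≫ (𝟙 Q ≫ q) = (eI ≫ m) ≫ p := by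
    rw [Category.id_comp, Category.assoc, Category.assoc, w4]
  have h10 := conormalMap_comp w4 w5 wB
  have h11 : conormalMap wB = 0 := by
    have e1 : (𝟙 Q ≫ q) = (q ≫ 𝟙 G) := by rw [Category.id_comp, Category.comp_id]
    have e2 : (eI ≫ m) = (𝟙 S ≫ eP) := by rw [Category.id_comp, h1]
    rw [conormalMap_congr e1 e2 wB wA, h8, comp_zero]
  rw [h11, comp_zero] at h10
  have h12 : Epi (conormalMap w4) := epi_conormalMap hI
  have h13 : conormalMap w5 = 0 := by
    exact (cancel_epi ((Scheme.Modules.pullback eI).map (conormalMap w4))).1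
      (h10.symm.trans comp_zero.symm)
  obtain ⟨h14, h15, h16⟩ := exact_seq m' eI w5 wI
  have h17 : Mono ((Scheme.Modules.pullbackId S).inv.app (Omega.conormal (eI ≫ m')) ≫ conormalMap wI) := by
    have h18 := h15.mono_g
    exact h18 h13
  have h19 : IsIso ((Scheme.Modules.pullbackId S).inv.app (Omega.conormal (eI ≫ m')) ≫ conormalMap wI) :=
    isIso_of_mono_of_epi _
  exact IsIso.of_isIso_comp_left ((Scheme.Modules.pullbackId S).inv.app (Omega.conormal (eI ≫ m')))
    (conormalMap wI)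

end K843.ConInter
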