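import Groth.Agent.Pi1.H382.StalkDvr
import Groth.Agent.Ega1.GenPts
import Groth.Agent.Sga7.H756.GenPt
import Groth.Agent.FDesc.K108.GenFib
import Groth.Agent.CanPar.K795.GenFib
import Groth.Agent.S1535
import Groth.Agent.S0558
import Mathlib.AlgebraicGeometry.Geometrically.Connected
import Mathlib.RingTheory.Valuation.ValuationRing

/-!
# Smooth proper curves over a discrete valuation ring

* `isIntegral_total`, `isIntegral_fiber`: the total space and the fibres are integral;
* `valuationRing_stalk_fiber`: the local rings of the fibres are valuation rings;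
* `isDVR_stalk`: the local ring of the total space at the generic point of the closed fibre.
-/

set_option autoImplicit false
universe u

open CategoryTheory CategoryTheory.Limits AlgebraicGeometry TopologicalSpace IsLocalRing

namespace K843.CurveFib

open Groth.Agent

section field

variable {S X : Scheme.{u}} (p : X ⟶ S) [Smooth p] (s : S)

theorem smooth_fiber : Smooth (p.fiberToSpecResidueField s) :=
  inferInstanceAs (Smooth (pullback.snd p (S.fromSpecResidueField s)))

theorem isProper_fiber [IsProper p] : IsProper (p.fiberToSpecResidueField s) :=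
  inferInstanceAs (IsProper (pullback.snd p (S.fromSpecResidueField s)))

theorem isRegularLocalRing_stalk_fiber (x : p.fiber s) :
    IsRegularLocalRing ((p.fiber s).presheaf.stalk x) := by
  letI : (p.fiber s).Over (Spec (CommRingCat.of (S.residueField s))) := ⟨p.fiberToSpecResidueField s⟩
  haveI : Smooth ((p.fiber s) ↘ (Spec (CommRingCat.of (S.residueField s)))) := smooth_fiber p s
  exact S1535.result (S.residueField s) (p.fiber s) x

theorem isDomain_stalk_fiber (x : p.fiber s) : IsDomain ((p.fiber s).presheaf.stalk x) := by
  have := isRegularLocalRing_stalk_fiber p s x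
  exact S0558.result _

theorem isLocallyNoetherian_fiber [LocallyOfFiniteType p] : IsLocallyNoetherian (p.fiber s) := by
  have : LocallyOfFiniteType (p.fiberToSpecResidueField s) :=
    inferInstanceAs (LocallyOfFiniteType (pullback.snd p (S.fromSpecResidueField s)))
  exact LocallyOfFiniteType.isLocallyNoetherian (p.fiberToSpecResidueField s)

theorem isIntegral_fiber [GeometricallyConnected p] : IsIntegral (p.fiber s) := by
  have := isLocallyNoetherian_fiber p s
  rw [Ega1.GenPts.isIntegral_iff]
  exact ⟨inferInstance, fun x => isDomain_stalk_fiber p s x⟩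

theorem isSeparated_fiber [IsProper p] : (p.fiber s).IsSeparated := by
  have := isProper_fiber p s
  rw [Scheme.isSeparated_iff, ← terminal.comp_from (p.fiberToSpecResidueField s)]
  infer_instance

theorem ringKrullDim_stalk_le' (X : Scheme.{u}) (x : X) :
    ringKrullDim (X.presheaf.stalk x) ≤ topologicalKrullDim X := by
  obtain ⟨V, hV, hx, -⟩ := exists_isAffineOpen_mem_and_subset (X := X) (x := x) (U := ⊤) trivial
  let := TopCat.Presheaf.algebra_section_stalk X.presheaf (⟨x, hx⟩ : V)
  have hloc : IsLocalization.AtPrime (X.presheaf.stalk x) (hV.primeIdealOf ⟨x, hx⟩).asIdeal :=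
    hV.isLocalization_stalk ⟨x, hx⟩
  rw [IsLocalization.AtPrime.ringKrullDim_eq_height (hV.primeIdealOf ⟨x, hx⟩).asIdeal]
  refine (Ideal.height_le_ringKrullDim_of_ne_top (hV.primeIdealOf ⟨x, hx⟩).2.ne_top).trans ?_
  have h1 : topologicalKrullDim V = ringKrullDim Γ(X, V) := by
    have h2 := PrimeSpectrum.topologicalKrullDim_eq_ringKrullDim (R := Γ(X, V))
    rw [← h2]
    exact IsHomeomorph.topologicalKrullDim_eq _ (hV.isoSpec.hom.homeomorph).isHomeomorph
  rw [← h1]
  exact topologicalKrullDim_subspace_le _ _

theorem ringKrullDim_stalk_le (hdim : topologicalKrullDim (p.fiber s) = 1) (x : p.fiber s) :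
    ringKrullDim ((p.fiber s).presheaf.stalk x) ≤ 1 :=
  (ringKrullDim_stalk_le' _ x).trans hdim.le

theorem valuationRing_stalk_fiber (hdim : topologicalKrullDim (p.fiber s) = 1) (x : p.fiber s) :
    ∃ _ : IsDomain ((p.fiber s).presheaf.stalk x), ValuationRing ((p.fiber s).presheaf.stalk x) := by
  have h1 := isDomain_stalk_fiber p s x
  have h2 := K108.GenFib.isDedekindDomain_of_regular _ (isRegularLocalRing_stalk_fiber p s x)
    (ringKrullDim_stalk_le p s hdim x)
  exact ⟨h1, ((tfae_of_isNoetherianRing_of_isLocalRing_of_isDomain
    ((p.fiber s).presheaf.stalk x)).out 2 1).mp h2⟩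

end field

/-- the closed point of the spectrum of a local ring -/
abbrev cpt (R : Type u) [CommRing R] [IsLocalRing R] : Spec (CommRingCat.of R) := (closedPoint R : PrimeSpectrum R)

section dvr

variable {R : Type u} [CommRing R] [IsDomain R] [IsDiscreteValuationRing R]
  {X : Scheme.{u}} (p : X ⟶ Spec (CommRingCat.of R)) [Smooth p]

theorem connectedSpace_total [GeometricallyConnected p] : ConnectedSpace X :=
  GeometricallyConnected.connectedSpace p p.isOpenMap

theorem isIntegral_total [GeometricallyConnected p] : IsIntegral X := by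
  have : IsLocallyNoetherian X := LocallyOfFiniteType.isLocallyNoetherian p
  have := connectedSpace_total p
  rw [Ega1.GenPts.isIntegral_iff]
  exact ⟨inferInstance, fun x => Pi1.H382.StalkDvr.isDomain p x⟩

theorem isSeparated_total [IsProper p] : X.IsSeparated := by
  rw [Scheme.isSeparated_iff, ← terminal.comp_from p]
  infer_instance

/-- the generic point of the closed fibre -/
theorem isDVR_stalk [GeometricallyConnected p] [IsIntegral (p.fiber (cpt R))] :
    ∃ _ : IsDomain (X.presheaf.stalk (p.fiberι (cpt R) (genericPoint (p.fiber (cpt R))))),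
      IsDiscreteValuationRing
        (X.presheaf.stalk (p.fiberι (cpt R) (genericPoint (p.fiber (cpt R))))) := by
  have : IsLocallyNoetherian X := LocallyOfFiniteType.isLocallyNoetherian p
  refine Sga7.H756.GenPt.exists_isDVR p (CycB.FiberKer.apply_fiberι p _ _) ?_
  exact Sga7.H756.GenPt.isGenAt_fiberι p _ _ (Field.toIsField (p.fiber (cpt R)).functionField)

end dvr

end K843.CurveFib
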