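import Groth.Agent.CanPar.K843.CurveFib
import Groth.Agent.CanPar.K795.ExtSection

/-!
# Specialization of morphisms from the generic fibre to a proper scheme

`p : X ⟶ Spec R` a smooth proper curve over a discrete valuation ring, `q : M ⟶ X` proper, `φ : X_η ⟶ M` over `X`.
Then `φ` extends over the local ring of the generic point of the closed fibre `X₀`, and from there to a morphism
`X₀ ⟶ M`.
-/

set_option autoImplicit false
universe u

open CategoryTheory CategoryTheory.Limits AlgebraicGeometry TopologicalSpace IsLocalRing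

namespace K843.SpecHom

open Groth.Agent K843.CurveFib K795.GenFib

/-- The morphism to the local ring at the image of a point. -/
theorem stalkMap_from {Y X : Scheme.{u}} (f : Y ⟶ X) (y : Y) :
    Spec.map (f.stalkMap y) ≫ X.fromSpecStalk (f y) = Y.fromSpecStalk y ≫ f :=
  Scheme.SpecMap_stalkMap_fromSpecStalk f

/-- A morphism from the generic fibre to a proper scheme over the base extends over a codimension one point `x` and
induces a morphism on an integral curve `Y` whose generic point maps to `x`. -/
theorem exists_spec {X : Scheme.{u}} [IsIntegral X] {V : Scheme.{u}} (j : V ⟶ X) [IsOpenImmersion j] [Nonempty V]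
    {Y : Scheme.{u}} [IsIntegral Y] [Y.IsSeparated] (hY : ∀ y : Y, ValuationRing (Y.presheaf.stalk y))
    (i : Y ⟶ X) (hx : ValuationRing (X.presheaf.stalk (i (genericPoint Y))))
    {M : Scheme.{u}} (q : M ⟶ X) [IsProper q] (φ : V ⟶ M) (hφ : φ ≫ q = j) :
    ∃ (a : Spec X.functionField ⟶ V) (φA : Spec (X.presheaf.stalk (i (genericPoint Y))) ⟶ M)
      (φ₀ : Y ⟶ M),
      a ≫ j = X.fromSpecStalk (genericPoint X) ∧
      φA ≫ q = X.fromSpecStalk (i (genericPoint Y)) ∧ φ₀ ≫ q = i ∧
      Spec.map (X.presheaf.stalkSpecializes (genericPoint_specializes (i (genericPoint Y)))) ≫ φA = a ≫ φ ∧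
      Spec.map (i.stalkMap (genericPoint Y)) ≫ φA = Y.fromSpecStalk (genericPoint Y) ≫ φ₀ := by
  have hgen : genericPoint X ∈ Set.range j := by
    obtain ⟨v⟩ := (inferInstance : Nonempty V)
    exact ((genericPoint_spec X).mem_open_set_iff j.isOpenEmbedding.isOpen_range).2 ⟨j v, trivial, v, rfl⟩
  let a : Spec X.functionField ⟶ V := IsOpenImmersion.lift j (X.fromSpecStalk (genericPoint X)) (by
    rw [Scheme.range_fromSpecStalk]
    rintro y hy
    exact hy.mem_open j.isOpenEmbedding.isOpen_range hgen)
  have ha : a ≫ j = X.fromSpecStalk (genericPoint X) := IsOpenImmersion.lift_fac _ _ _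
  obtain ⟨φA, h1, h2⟩ := Groth.Agent.Ega2.ClosedLift.exists_lift_of_isClosedMap q q.isClosedMap
    (i (genericPoint Y)) X.functionField (a ≫ φ) (by
      rw [Category.assoc, hφ, ha]
      exact (Scheme.SpecMap_stalkSpecializes_fromSpecStalk (genericPoint_specializes _)).symm)
  obtain ⟨s, hs1, hs2⟩ := K795.ExtSection.exists_section hY (pullback.snd q i)
    (pullback.lift (Spec.map (i.stalkMap (genericPoint Y)) ≫ φA) (Y.fromSpecStalk (genericPoint Y)) (by
      rw [Category.assoc, h1, stalkMap_from])) (pullback.lift_snd _ _ _)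
  refine ⟨a, φA, s ≫ pullback.fst q i, ha, h1, ?_, h2, ?_⟩
  · rw [Category.assoc, pullback.condition, ← Category.assoc, hs1, Category.id_comp]
  · rw [← Category.assoc, hs2]
    exact (pullback.lift_fst _ _ _).symm

end K843.SpecHom
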