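import Groth.Agent.CanPar.K795.GenZero
import Groth.Agent.CanPar.K795.ParExt
import Groth.Agent.CanPar.K795.FibreRank
import Groth.Agent.CanPar.K843.SpecHom
import Groth.Agent.Dcoh.ResFree
import Groth.Agent.VarietyA.DegRank

/-!
# Transport of relations between the generic and the closed fibre

`Fam h i φ`: the subgroup `i : P ⟶ G_T` is the pullback of the family `h` along `φ`. `kills_chain`: a relation which
holds on the generic fibre holds on the closed fibre, `rk_chain`: equality of ranks.
-/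

set_option autoImplicit false
universe u

open CategoryTheory CategoryTheory.Limits MonoidalCategory CartesianMonoidalCategory MonObj GrpObj
open AlgebraicGeometry TopologicalSpace IsLocalRing

namespace K843.KillChain

open Groth.Agent K795.OmQuot K795.OmegaGrp K795.GenZero K795.ParExt Groth.Agent.RedSub.H647.SubPt
  Groth.Agent.VarietyA.DegRank

section ranks

theorem finrank_pullback {T T' : Scheme.{u}} {E : T.Modules} (hE : FlatMod.IsFinLocFree E) (g : T' ⟶ T) (t' : T') :
    Module.finrank (T'.presheaf.stalk t') (((Scheme.Modules.pullback g).obj E).presheaf.stalk t') =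
      Module.finrank (T.presheaf.stalk (g t')) (E.presheaf.stalk (g t')) := by
  obtain ⟨U, n, hU, ⟨e⟩⟩ := hE (g t')
  rw [K795.FibreRank.finrank_stalk_pullback e g t' hU, K795.FibreRank.finrank_stalk e (g t') hU]

theorem finrank_iso {T : Scheme.{u}} {E F : T.Modules} (e : E ≅ F) (t : T) :
    Module.finrank (T.presheaf.stalk t) (E.presheaf.stalk t) =
      Module.finrank (T.presheaf.stalk t) (F.presheaf.stalk t) :=
  (Groth.Agent.CycB.StalkExact.stalkLinEquiv e t).finrank_eq

theorem finrank_const {A : CommRingCat.{u}} [IsLocalRing A] {E : (Spec A).Modules} (hE : FlatMod.IsFinLocFree E)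
    (x y : Spec A) : Module.finrank ((Spec A).presheaf.stalk x) (E.presheaf.stalk x) =
      Module.finrank ((Spec A).presheaf.stalk y) (E.presheaf.stalk y) := by
  obtain ⟨U, n, hU, ⟨e⟩⟩ := hE (closedPoint A)
  have h : ∀ z : Spec A, z ∈ U := fun z =>
    (show z ⤳ closedPoint A from specializes_closedPoint _).mem_open U.2 hU
  rw [K795.FibreRank.finrank_stalk e x (h x), K795.FibreRank.finrank_stalk e y (h y)]

end ranks

theorem genericPoint_spec_field {K : CommRingCat.{u}} (hK : IsField K) [IsIntegral (Spec K)] (x : Spec K) :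
    x = genericPoint (Spec K) := by
  let _ := hK.toField
  exact Subsingleton.elim (α := PrimeSpectrum K) _ _

section gen

variable {X : Scheme.{u}} [IsIntegral X]

theorem flat_stalkSpecializes (x : X) :
    Flat (Spec.map (X.presheaf.stalkSpecializes (genericPoint_specializes x))) := by
  rw [Flat.SpecMap_iff]
  have h : Module.Flat (X.presheaf.stalk x) X.functionField :=
    IsLocalization.flat _ (nonZeroDivisors (X.presheaf.stalk x))
  exact h

theorem spec_closed (x : X) (t : Spec X.functionField) :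
    Spec.map (X.presheaf.stalkSpecializes (genericPoint_specializes x)) t =
      genericPoint (Spec (X.presheaf.stalk x)) := by
  rw [genericPoint_eq_bot_of_affine]
  apply (X.fromSpecStalk x).isEmbedding.injective
  rw [K108.GenFib.fromSpecStalk_bot, ← Scheme.Hom.comp_apply, Scheme.SpecMap_stalkSpecializes_fromSpecStalk]
  have ht : t = closedPoint X.functionField := Subsingleton.elim (α := PrimeSpectrum X.functionField) _ _
  rw [ht, Scheme.fromSpecStalk_closedPoint]

end gen

variable {X : Scheme.{u}} {G : Over X} [GrpObj G]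

theorem quasiSeparated_of_reductive (hG : Red.IsReductive G) : QuasiSeparated G.hom := by
  have := hG.1
  infer_instance

theorem quasiSeparated_of_parabolic (hG : Red.IsReductive G) {T : Scheme.{u}} {f : T ⟶ X} {P : Over T} [GrpObj P]
    {i : P ⟶ Red.bc f G} (hi : Red.IsParabolic i) : QuasiSeparated P.hom := by
  have := hG.1
  have := hi.2.1
  have h1 : IsAffineHom (Red.bc f G).hom :=
    MorphismProperty.of_isPullback (P := @IsAffineHom) (IsPullback.of_hasPullback G.hom f) hG.1
  rw [← Over.w i]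
  infer_instance

theorem mono_of_parabolic {T : Scheme.{u}} {f : T ⟶ X} {P : Over T} [GrpObj P]
    {i : P ⟶ Red.bc f G} (hi : Red.IsParabolic i) : Mono i := by
  have := hi.2.1
  exact Over.mono_of_mono_left _

theorem isFinLocFree_cn {T : Scheme.{u}} (H : Over T) [GrpObj H] [Smooth H.hom] [QuasiSeparated H.hom] :
    FlatMod.IsFinLocFree (cn H) :=
  Groth.Agent.Dcoh.ResFree.isFinLocFree_of_iso (omegaIso H) (isFinLocFree_omega H)

variable {M : Over X} {H : Over M.left} [GrpObj H]

/-- The subgroup `i : P ⟶ G_T` is the pullback of the family `h` along `φ`. -/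
def Fam (h : H ⟶ Red.bc M.hom G) {T : Scheme.{u}} {f : T ⟶ X} {P : Over T} (i : P ⟶ Red.bc f G)
    (φ : T ⟶ M.left) : Prop :=
  ∀ (Z : Scheme.{u}) (y : Z ⟶ T) (g : Z ⟶ G.left), Pt i y g ↔ Pt h (y ≫ φ) g

omit [GrpObj G] [GrpObj H] in
theorem Fam.pts {h : H ⟶ Red.bc M.hom G} {T T' : Scheme.{u}} (a : T' ⟶ T) {f : T ⟶ X} {f' : T' ⟶ X} {P : Over T}
    {P' : Over T'} {i : P ⟶ Red.bc f G} {i' : P' ⟶ Red.bc f' G} {φ : T ⟶ M.left} {φ' : T' ⟶ M.left}
    (h1 : Fam h i φ) (h2 : Fam h i' φ') (hφ : a ≫ φ = φ') (Z : Scheme.{u}) (y : Z ⟶ T') (g : Z ⟶ G.left) :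
    Pt i' y g ↔ Pt i (y ≫ a) g := by
  rw [h2, h1, ← hφ, Category.assoc]

theorem rk_pull {h : H ⟶ Red.bc M.hom G} [QuasiSeparated G.hom] {T T' : Scheme.{u}} (a : T' ⟶ T) {f : T ⟶ X}
    {f' : T' ⟶ X} (ha : a ≫ f = f') {P : Over T} {P' : Over T'} [GrpObj P] [GrpObj P'] {i : P ⟶ Red.bc f G}
    {i' : P' ⟶ Red.bc f' G} [IsMonHom i] [IsMonHom i'] [Mono i] [Mono i'] [QuasiSeparated P.hom]
    [QuasiSeparated P'.hom] [Smooth P.hom] {φ : T ⟶ M.left} {φ' : T' ⟶ M.left}
    (h1 : Fam h i φ) (h2 : Fam h i' φ') (hφ : a ≫ φ = φ') (t' : T') :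
    Module.finrank (T'.presheaf.stalk t') ((cn P').presheaf.stalk t') =
      Module.finrank (T.presheaf.stalk (a t')) ((cn P).presheaf.stalk (a t')) := by
  obtain ⟨κ, -⟩ := exists_q_bc a ha i i' (h1.pts a h2 hφ)
  rw [← finrank_iso κ t', finrank_pullback (isFinLocFree_cn P) a t']

section chain

variable [IsIntegral X] (hG : Red.IsReductive G) {h : H ⟶ Red.bc M.hom G} (hh : Red.IsParabolic h)
  {V : Scheme.{u}} {j : V ⟶ X} {Y : Scheme.{u}} [IsIntegral Y] {i : Y ⟶ X}
  {φ : V ⟶ M.left} {φ₀ : Y ⟶ M.left} (hφ : φ ≫ M.hom = j) (hφ₀ : φ₀ ≫ M.hom = i)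
  {a : Spec X.functionField ⟶ V} {φA : Spec (X.presheaf.stalk (i (genericPoint Y))) ⟶ M.left}
  (ha : a ≫ j = X.fromSpecStalk (genericPoint X))
  (hA : φA ≫ M.hom = X.fromSpecStalk (i (genericPoint Y)))
  (h1 : Spec.map (X.presheaf.stalkSpecializes (genericPoint_specializes (i (genericPoint Y)))) ≫ φA = a ≫ φ)
  (h2 : Spec.map (i.stalkMap (genericPoint Y)) ≫ φA = Y.fromSpecStalk (genericPoint Y) ≫ φ₀)
  {Q : Over V} [GrpObj Q] {jQ : Q ⟶ Red.bc j G} (hQ : Red.IsParabolic jQ) (fQ : Fam h jQ φ)
  {P : Over Y} [GrpObj P] {iP : P ⟶ Red.bc i G} (hP : Red.IsParabolic iP) (fP : Fam h iP φ₀)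

include hG hh hφ hφ₀ ha hA h1 h2 hQ fQ hP fP

/-- The module of invariant differentials has the same rank on both sides. -/
theorem rk_chain (t : Spec X.functionField) :
    Module.finrank (V.presheaf.stalk (a t)) ((cn Q).presheaf.stalk (a t)) =
      Module.finrank (Y.presheaf.stalk (genericPoint Y)) ((cn P).presheaf.stalk (genericPoint Y)) := by
  have := quasiSeparated_of_reductive hG
  obtain ⟨PL, _, iL, hL, fL⟩ := exists_par_of_hom hG hh (X.fromSpecStalk (genericPoint X)) (a ≫ φ)
    (by rw [Category.assoc, hφ, ha])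
  obtain ⟨PA, _, iA, hiA, fA⟩ := exists_par_of_hom hG hh (X.fromSpecStalk (i (genericPoint Y))) φA hA
  obtain ⟨Pk, _, ik, hk, fk⟩ := exists_par_of_hom hG hh (Y.fromSpecStalk (genericPoint Y) ≫ i)
    (Y.fromSpecStalk (genericPoint Y) ≫ φ₀) (by rw [Category.assoc, hφ₀])
  have := hQ.1; have := hP.1; have := hL.1; have := hiA.1; have := hk.1
  have := mono_of_parabolic hQ; have := mono_of_parabolic hP; have := mono_of_parabolic hL
  have := mono_of_parabolic hiA; have := mono_of_parabolic hk
  have := quasiSeparated_of_parabolic hG hQ; have := quasiSeparated_of_parabolic hG hP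
  have := quasiSeparated_of_parabolic hG hL; have := quasiSeparated_of_parabolic hG hiA
  have := quasiSeparated_of_parabolic hG hk
  have := hQ.2.2.1; have := hP.2.2.1; have := hL.2.2.1; have := hiA.2.2.1; have := hk.2.2.1
  have e1 := rk_pull a ha fQ (i' := iL) (φ' := a ≫ φ) fL rfl t
  have e2 := rk_pull (Spec.map (X.presheaf.stalkSpecializes (genericPoint_specializes (i (genericPoint Y)))))
    (Scheme.SpecMap_stalkSpecializes_fromSpecStalk _) (i := iA) (i' := iL) (φ := φA) (φ' := a ≫ φ) fA fL h1 t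
  have e3 := rk_pull (Spec.map (i.stalkMap (genericPoint Y))) (SpecHom.stalkMap_from i (genericPoint Y))
    (i := iA) (i' := ik) (φ := φA) fA fk h2 (closedPoint (Y.presheaf.stalk (genericPoint Y)))
  have e4 := rk_pull (Y.fromSpecStalk (genericPoint Y)) rfl (i := iP) (i' := ik) (φ := φ₀) fP fk rfl
    (closedPoint (Y.presheaf.stalk (genericPoint Y)))
  have e5 := finrank_const (isFinLocFree_cn PA)
    (Spec.map (X.presheaf.stalkSpecializes (genericPoint_specializes (i (genericPoint Y)))) t)
    (Spec.map (i.stalkMap (genericPoint Y)) (closedPoint (Y.presheaf.stalk (genericPoint Y))))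
  rw [Scheme.fromSpecStalk_closedPoint] at e4
  rw [← e1, e2, e5, ← e3, e4]

theorem kills_chain [QuasiSeparated G.hom] [IsMonHom jQ] [QuasiSeparated Q.hom] [IsMonHom iP]
    [QuasiSeparated P.hom] {N : X.Modules} (k : N ⟶ cn G) (hk : Kills jQ k) : Kills iP k := by
  obtain ⟨PL, _, iL, hL, fL⟩ := exists_par_of_hom hG hh (X.fromSpecStalk (genericPoint X)) (a ≫ φ)
    (by rw [Category.assoc, hφ, ha])
  obtain ⟨PA, _, iA, hiA, fA⟩ := exists_par_of_hom hG hh (X.fromSpecStalk (i (genericPoint Y))) φA hA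
  obtain ⟨Pk, _, ik, hik, fk⟩ := exists_par_of_hom hG hh (Y.fromSpecStalk (genericPoint Y) ≫ i)
    (Y.fromSpecStalk (genericPoint Y) ≫ φ₀) (by rw [Category.assoc, hφ₀])
  have := hL.1; have := hiA.1; have := hik.1
  have := mono_of_parabolic hQ; have := mono_of_parabolic hP; have := mono_of_parabolic hL
  have := mono_of_parabolic hiA; have := mono_of_parabolic hik
  have := quasiSeparated_of_parabolic hG hL; have := quasiSeparated_of_parabolic hG hiA
  have := quasiSeparated_of_parabolic hG hik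
  have := hQ.2.2.1; have := hP.2.2.1; have := hL.2.2.1; have := hiA.2.2.1; have := hik.2.2.1
  have k1 : Kills iL k := kills_bc a ha jQ iL (fQ.pts a (i' := iL) fL rfl) k hk
  have := flat_stalkSpecializes (i (genericPoint Y))
  have k2 : Kills iA k := kills_of_bc
    (Spec.map (X.presheaf.stalkSpecializes (genericPoint_specializes (i (genericPoint Y)))))
    (Scheme.SpecMap_stalkSpecializes_fromSpecStalk _) iA iL
    (Fam.pts (φ := φA) _ fA fL h1) k (closedPoint X.functionField) (spec_closed _ _) (isFinLocFree_cn PA) k1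
  have k3 : Kills ik k := kills_bc (Spec.map (i.stalkMap (genericPoint Y)))
    (SpecHom.stalkMap_from i (genericPoint Y)) iA ik (Fam.pts (φ := φA) _ fA fk h2) k k2
  exact kills_of_bc (Y.fromSpecStalk (genericPoint Y)) rfl iP ik (Fam.pts (φ := φ₀) _ fP fk rfl) k
    (closedPoint (Y.presheaf.stalk (genericPoint Y))) (Scheme.fromSpecStalk_closedPoint) (isFinLocFree_cn P) k3

end chain

end K843.KillChain
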