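import Groth.Agent.CanPar.K843.DegField
import Groth.Agent.CanPar.K843.KillChain
import Groth.Agent.CanPar.K795.UnifBound

/-!
# Degree and extension of the base field
-/

set_option autoImplicit false
universe u

open CategoryTheory CategoryTheory.Limits AlgebraicGeometry

namespace K843.DegBase

open Groth.Agent Groth.Agent.VarietyA.DegRank K795.CurveBound

variable {k K : Type u} [Field k] [Field K] (φ : k →+* K) {X X' : Scheme.{u}} (x : X ⟶ Spec (CommRingCat.of k))
  (x' : X' ⟶ Spec (CommRingCat.of K)) (g : X' ⟶ X) (h : IsPullback g x' x (Spec.map (CommRingCat.ofHom φ)))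
  [IsProper x]

include h

theorem euler_baseChange (F : X.Modules) (hF : Coh.IsQCoh F) :
    @Curv2.euler K _ X' ⟨x'⟩ ((Scheme.Modules.pullback g).obj F) = @Curv2.euler k _ X ⟨x⟩ F := by
  letI : X'.Over (Spec (CommRingCat.of K)) := ⟨x'⟩
  letI : X.Over (Spec (CommRingCat.of k)) := ⟨x⟩
  letI : Algebra k K := φ.toAlgebra
  have hpr : IsProper (X ↘ Spec (CommRingCat.of k)) := inferInstanceAs (IsProper x)
  rw [Curv2.euler, Curv2.euler]
  refine finsum_congr fun i => ?_
  rw [CurvesB.VABaseChange.finrank_eq (k := k) (K := K) (X := X) (X' := X') (p := g) h F hF i]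

theorem dg_baseChange [IrreducibleSpace X] [IrreducibleSpace X'] (hgen : g (genericPoint X') = genericPoint X)
    {F : X.Modules} (hF : FlatMod.IsFinLocFree F) :
    @dg K _ X' ⟨x'⟩ _ ((Scheme.Modules.pullback g).obj F) = @dg k _ X ⟨x⟩ _ F := by
  have e1 := euler_baseChange φ x x' g h F (PerfA.QCohEpi.isQCoh_of_isFinLocFree hF)
  have e2 := euler_baseChange φ x x' g h (Coh.structureModule X)
    (PerfA.QCohEpi.isQCoh_of_isFinLocFree PerfB.StructFlat.isFinLocFree_structure)
  have e3 : rk ((Scheme.Modules.pullback g).obj F) = rk F := by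
    rw [rk, rk, K843.KillChain.finrank_pullback hF g, hgen]
  have e4 : @Curv2.euler K _ X' ⟨x'⟩ ((Scheme.Modules.pullback g).obj (Coh.structureModule X)) =
      @Curv2.euler K _ X' ⟨x'⟩ (Coh.structureModule X') := by
    letI : X'.Over (Spec (CommRingCat.of K)) := ⟨x'⟩
    exact euler_iso K (PerfC.PullRestrict.pullbackUnit g)
  rw [dg, dg, e1, e3, ← e4, e2]

end K843.DegBase
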