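import Groth.Agent.CanPar.K795.CurveBound

/-!
# Degree over a subfield
-/

set_option autoImplicit false
universe u

open CategoryTheory CategoryTheory.Limits AlgebraicGeometry

namespace K843.DegField

open Groth.Agent K795.CurveBound

variable (K K' : Type u) [Field K] [Field K'] (φ : K →+* K') (Y : Scheme.{u}) (y : Y ⟶ Spec (CommRingCat.of K'))

theorem toGlobal_comp : Coh.toGlobal (y ≫ Spec.map (CommRingCat.ofHom φ)) = (Coh.toGlobal y).comp φ := by
  refine RingHom.ext fun a => ?_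
  have h := congr(($(Scheme.ΓSpecIso_inv_naturality (CommRingCat.ofHom φ))).hom a)
  change ((y ≫ Spec.map (CommRingCat.ofHom φ)).appTop).hom ((Scheme.ΓSpecIso (CommRingCat.of K)).inv.hom a) =
    y.appTop.hom ((Scheme.ΓSpecIso (CommRingCat.of K')).inv.hom (φ a))
  rw [Scheme.Hom.comp_appTop]
  change y.appTop.hom ((Spec.map (CommRingCat.ofHom φ)).appTop.hom ((Scheme.ΓSpecIso (CommRingCat.of K)).inv.hom a)) = _
  exact congrArg y.appTop.hom h.symm

theorem finrank_HH (F : Y.Modules) (i : ℕ) :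
    @Module.finrank K (Coh.HH Y F i) _ _ (letI : Y.Over (Spec (CommRingCat.of K)) := ⟨y ≫ Spec.map (CommRingCat.ofHom φ)⟩
      inferInstance) =
    (letI := φ.toAlgebra; Module.finrank K K') *
      @Module.finrank K' (Coh.HH Y F i) _ _ (letI : Y.Over (Spec (CommRingCat.of K')) := ⟨y⟩; inferInstance) := by
  letI : Algebra K K' := φ.toAlgebra
  letI : Y.Over (Spec (CommRingCat.of K)) := ⟨y ≫ Spec.map (CommRingCat.ofHom φ)⟩
  letI : Y.Over (Spec (CommRingCat.of K')) := ⟨y⟩
  have hst : IsScalarTower K K' (Coh.HH Y F i) := by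
    refine ⟨fun a b x => ?_⟩
    have e1 : a • b = φ a * b := rfl
    rw [e1, mul_smul]
    change Coh.toGlobal y (φ a) • (b • x) = Coh.toGlobal (y ≫ Spec.map (CommRingCat.ofHom φ)) a • (b • x)
    rw [toGlobal_comp]
    rfl
  exact (Module.finrank_mul_finrank K K' (Coh.HH Y F i)).symm

theorem euler_eq (F : Y.Modules) :
    @Curv2.euler K _ Y ⟨y ≫ Spec.map (CommRingCat.ofHom φ)⟩ F =
      (letI := φ.toAlgebra; (Module.finrank K K' : ℤ)) * @Curv2.euler K' _ Y ⟨y⟩ F := by
  rw [Curv2.euler, Curv2.euler, ← smul_eq_mul, smul_finsum]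
  refine finsum_congr fun i => ?_
  rw [finrank_HH K K' φ Y y F i, smul_eq_mul]
  push_cast
  ring

theorem dg_eq [IrreducibleSpace Y] (F : Y.Modules) :
    @dg K _ Y ⟨y ≫ Spec.map (CommRingCat.ofHom φ)⟩ _ F =
      (letI := φ.toAlgebra; (Module.finrank K K' : ℤ)) * @dg K' _ Y ⟨y⟩ _ F := by
  rw [dg, dg, euler_eq, euler_eq]
  ring

end K843.DegField
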