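import Groth.Agent.Sga7.H620.DimSmooth
import Groth.Agent.Dual.H328.ClopenGlue
import Groth.Agent.CanPar.K843.KillChain

/-!
# The dimension of a smooth group over a field is the rank of its module of invariant differentials
-/

set_option autoImplicit false
universe u

open CategoryTheory CategoryTheory.Limits AlgebraicGeometry MonObj GrpObj

namespace K843.DimOmega

open Groth.Agent K795.OmegaGrp K795.OmQuot K843.KillChain

theorem finrank_ofRank {X : Scheme.{u}} {n : ℕ} {E : X.Modules} (hE : FlatMod.IsFinLocFreeOfRank n E) (x : X) :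
    Module.finrank (X.presheaf.stalk x) (E.presheaf.stalk x) = n := by
  obtain ⟨U, hU, ⟨e⟩⟩ := hE x
  exact K795.FibreRank.finrank_stalk e x hU

theorem finrank_omega {X S : Scheme.{u}} (f : X ⟶ S) [Smooth f] [QuasiSeparated f] (x : X) :
    ∃ (n : ℕ) (V : X.Opens), x ∈ V ∧ SmoothOfRelativeDimension n (V.ι ≫ f) ∧
      Module.finrank (X.presheaf.stalk x) ((Omega.sheaf f).presheaf.stalk x) = n := by
  obtain ⟨n, V, hx, h⟩ := Sga7.H620.DimSmooth.exists_relDim f x
  refine ⟨n, V, hx, h, ?_⟩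
  obtain ⟨e⟩ := Dual.H328.ClopenGlue.nonempty_omega_restrict (f := f) V
  have h1 : FlatMod.IsFinLocFreeOfRank n (Omega.sheaf (V.ι ≫ f)) :=
    Vancyc.H878.OmegaRank.isFinLocFreeOfRank_omega n (V.ι ≫ f)
  have h2 := finrank_ofRank h1 ⟨x, hx⟩
  let e2 : (Scheme.Modules.pullback V.ι).obj (Omega.sheaf f) ≅ Omega.sheaf (V.ι ≫ f) :=
    ((Scheme.Modules.restrictFunctorIsoPullback V.ι).app (Omega.sheaf f)).symm ≪≫ e
  have h3 := finrank_iso e2 ⟨x, hx⟩
  have h4 := finrank_pullback (Vancyc.H878.OmegaRank.isFinLocFree_omega f) V.ι ⟨x, hx⟩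
  rw [h2, h4] at h3
  exact h3

theorem dim_eq {K : Type u} [Field K] (H : Over (Spec (CommRingCat.of K))) [GrpObj H] [Smooth H.hom]
    [QuasiSeparated H.hom] (t : Spec (CommRingCat.of K)) :
    topologicalKrullDim H.left =
      (Module.finrank ((Spec (CommRingCat.of K)).presheaf.stalk t) ((cn H).presheaf.stalk t) : ℕ) := by
  obtain ⟨n, V, hx, h, hn⟩ := finrank_omega H.hom (un H t)
  rw [Sga7.H620.DimSmooth.dim_eq_of_relDim H n V.ι ⟨un H t, hx⟩ h]
  have h1 := finrank_iso (omegaIso H) t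
  have h2 := finrank_pullback (Vancyc.H878.OmegaRank.isFinLocFree_omega H.hom) (un H) t
  rw [← h1, ← hn]
  exact congrArg _ h2.symm

end K843.DimOmega
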