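import Groth.Agent.Sga1.EtaleSection
import Groth.Agent.CanPar.K795.UnifBound

/-!
# Sections of étale morphisms; residue fields of unramified morphisms
-/

set_option autoImplicit false
universe u

open CategoryTheory CategoryTheory.Limits AlgebraicGeometry

namespace K843.EtSec

open Groth.Agent

/-- A section of a separated étale morphism with connected source is an isomorphism. -/
theorem isIso_of_section {A B : Scheme.{u}} (w : A ⟶ B) (v : B ⟶ A) (h : w ≫ v = 𝟙 A) [Etale v] [IsSeparated v]
    [ConnectedSpace B] [Nonempty A] : IsIso w := by
  have h1 : IsOpenImmersion w := Sga1.EtaleSection.isOpenImmersion_section v w h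
  have h2 : IsClosedImmersion w := by
    have : IsClosedImmersion (w ≫ v) := by rw [h]; infer_instance
    exact IsClosedImmersion.of_comp w v
  have h3 : IsClopen (Set.range w) := ⟨w.isClosedEmbedding.isClosed_range, w.isOpenEmbedding.isOpen_range⟩
  have h4 : Surjective w := ⟨Set.range_eq_univ.1 (h3.eq_univ (Set.range_nonempty _))⟩
  exact (isIso_iff_isOpenImmersion_and_surjective _).2 ⟨h1, h4⟩

theorem finite_etale_of_field {K L : Type u} [Field K] [Field L] [Algebra K L] [Algebra.EssFiniteType K L]
    [Algebra.FormallyUnramified K L] : Module.Finite K L ∧ Algebra.Etale K L := by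
  have h1 : Module.Finite K L := Algebra.FormallyUnramified.finite_of_free K L
  have h2 : Algebra.IsSeparable K L := Algebra.FormallyUnramified.isSeparable K L
  have h3 : Algebra.FormallyEtale K L := Algebra.FormallyEtale.of_isSeparable K L
  have h4 : Algebra.FinitePresentation K L := (Algebra.FinitePresentation.of_finiteType).1 inferInstance
  exact ⟨h1, ⟨h3, h4⟩⟩

theorem resEt {Y S : Scheme.{u}} (b : Y ⟶ S) [FormallyUnramified b] [LocallyOfFiniteType b] (y : Y) :
    Etale (Spec.map (b.residueFieldMap y)) ∧ IsFinite (Spec.map (b.residueFieldMap y)) := by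
  letI : Algebra (S.residueField (b y)) (Y.residueField y) := (b.residueFieldMap y).hom.toAlgebra
  have h1 : Algebra.IsSeparable (S.residueField (b y)) (Y.residueField y) := inferInstance
  have h2 : Algebra.EssFiniteType (S.residueField (b y)) (Y.residueField y) := by
    letI : Algebra (S.presheaf.stalk (b y)) (Y.presheaf.stalk y) := (b.stalkMap y).hom.toAlgebra
    have h3 : Algebra.EssFiniteType (S.presheaf.stalk (b y)) (Y.presheaf.stalk y) := by
      rw [← RingHom.essFiniteType_algebraMap, RingHom.algebraMap_toAlgebra]
      exact LocallyOfFiniteType.stalkMap b y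
    letI : Algebra (S.presheaf.stalk (b y)) (Y.residueField y) :=
      ((Y.residue y).hom.comp (b.stalkMap y).hom).toAlgebra
    letI : Algebra (S.presheaf.stalk (b y)) (S.residueField (b y)) := (S.residue (b y)).hom.toAlgebra
    letI : Algebra (Y.presheaf.stalk y) (Y.residueField y) := (Y.residue y).hom.toAlgebra
    have : IsScalarTower (S.presheaf.stalk (b y)) (Y.presheaf.stalk y) (Y.residueField y) :=
      IsScalarTower.of_algebraMap_eq' rfl
    have : IsScalarTower (S.presheaf.stalk (b y)) (S.residueField (b y)) (Y.residueField y) :=
      IsScalarTower.of_algebraMap_eq' (by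
        change (Y.residue y).hom.comp (b.stalkMap y).hom = (b.residueFieldMap y).hom.comp (S.residue (b y)).hom
        rw [← CommRingCat.hom_comp, ← CommRingCat.hom_comp, Scheme.residue_residueFieldMap])
    have h4 : Algebra.EssFiniteType (Y.presheaf.stalk y) (Y.residueField y) := by
      have : Algebra.FiniteType (Y.presheaf.stalk y) (Y.residueField y) :=
        Algebra.FiniteType.of_surjective (Algebra.ofId _ _) (Y.residue_surjective y)
      infer_instance
    have h5 : Algebra.EssFiniteType (S.presheaf.stalk (b y)) (Y.residueField y) :=
      Algebra.EssFiniteType.comp _ (Y.presheaf.stalk y) _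
    exact Algebra.EssFiniteType.of_comp (S.presheaf.stalk (b y)) _ _
  have h3 : Algebra.FormallyUnramified (S.residueField (b y)) (Y.residueField y) :=
    (Algebra.FormallyUnramified.iff_isSeparable _ _).2 h1
  obtain ⟨h4, h5⟩ := finite_etale_of_field (K := S.residueField (b y)) (L := Y.residueField y)
  constructor
  · rw [HasRingHomProperty.Spec_iff (P := @Etale)]
    exact h5
  · rw [IsFinite.SpecMap_iff]
    exact h4

/-- A morphism from the spectrum of a field factors through the spectrum of the residue field. -/
theorem exists_fac_residue {S : Scheme.{u}} {K : Type u} [Field K] (x : Spec (CommRingCat.of K) ⟶ S) {s : S}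
    (h : x (IsLocalRing.closedPoint K) = s) :
    ∃ y : Spec (CommRingCat.of K) ⟶ Spec (S.residueField s), y ≫ S.fromSpecResidueField s = x := by
  subst h
  exact ⟨Spec.map (K795.UnifBound.ext x), K795.UnifBound.ext_comp x⟩

end K843.EtSec
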