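import Groth.Agent.CycB.ImageInt
import Groth.Agent.S4808
import Mathlib.AlgebraicGeometry.Morphisms.QuasiFinite
import Mathlib.AlgebraicGeometry.ZariskisMainTheorem

/-!
# Extension of sections of proper morphisms over normal schemes

`exists_section`: a section over a nonempty open subscheme of a normal integral scheme extends if the projection of
its closure is injective on field-valued points.
-/

set_option autoImplicit false
universe u

open CategoryTheory CategoryTheory.Limits AlgebraicGeometry TopologicalSpace

namespace K843.ExtClosure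

open Groth.Agent

theorem exists_section {X : Scheme.{u}} [IsIntegral X] (hN : ∀ x : X, IsIntegrallyClosed (X.presheaf.stalk x))
    {V : Scheme.{u}} (j : V ⟶ X) [IsOpenImmersion j] [IsIntegral V]
    {M : Scheme.{u}} (q : M ⟶ X) [IsProper q] (φ : V ⟶ M) [QuasiCompact φ] (hφ : φ ≫ q = j)
    (hinj : ∀ (Z : Scheme.{u}) [IsIntegral Z] (c : V ⟶ Z) (i : Z ⟶ M), IsClosedImmersion i →
      c (genericPoint V) = genericPoint Z → c ≫ i = φ →
      ∀ (K : Type u) [Field K] (z₁ z₂ : Spec (CommRingCat.of K) ⟶ Z), z₁ ≫ i ≫ q = z₂ ≫ i ≫ q → z₁ ≫ i = z₂ ≫ i) :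
    ∃ s : X ⟶ M, s ≫ q = 𝟙 X ∧ j ≫ s = φ := by
  have hZ : IsIntegral φ.image := CycB.ImageInt.isIntegral_image φ
  have hgen : φ.toImage (genericPoint V) = genericPoint φ.image := CycB.ImageInt.toImage_genericPoint φ
  have himm : IsImmersion φ := by
    have : IsImmersion (φ ≫ q) := by rw [hφ]; infer_instance
    exact IsImmersion.of_comp φ q
  have hc : IsOpenImmersion φ.toImage := inferInstance
  let g : φ.image ⟶ X := φ.imageι ≫ q
  have hcg : φ.toImage ≫ g = j := by
    rw [← hφ, ← Category.assoc, Scheme.Hom.toImage_imageι]
  have hginj : Function.Injective g := by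
    intro z z' h
    obtain ⟨y, hy1, hy2⟩ := Scheme.Pullback.exists_preimage_pullback (f := g) (g := g) z z' h
    let ξ : Spec (CommRingCat.of ((pullback g g).residueField y)) ⟶ pullback g g := (pullback g g).fromSpecResidueField y
    have h1 := hinj φ.image φ.toImage φ.imageι inferInstance hgen (Scheme.Hom.toImage_imageι φ)
      ((pullback g g).residueField y) (ξ ≫ pullback.fst g g) (ξ ≫ pullback.snd g g) (by
        rw [Category.assoc, Category.assoc]
        exact congrArg (ξ ≫ ·) pullback.condition)
    have h2 : ξ ≫ pullback.fst g g = ξ ≫ pullback.snd g g := (cancel_mono φ.imageι).1 h1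
    have h3 := congrArg (fun w => w (IsLocalRing.closedPoint ((pullback g g).residueField y))) h2
    have h4 : ξ (IsLocalRing.closedPoint ((pullback g g).residueField y)) = y :=
      Scheme.fromSpecResidueField_apply y _
    have h5 : pullback.fst g g (ξ (IsLocalRing.closedPoint ((pullback g g).residueField y))) =
        pullback.snd g g (ξ (IsLocalRing.closedPoint ((pullback g g).residueField y))) := h3
    rw [h4, hy1, hy2] at h5
    exact h5
  have hqf : LocallyQuasiFinite g := LocallyQuasiFinite.of_injective hginj
  have hfin : IsFinite g := IsFinite.of_isProper_of_locallyQuasiFinite g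
  have hgg : g (genericPoint φ.image) = genericPoint X := by
    rw [← hgen, ← Scheme.Hom.comp_apply, hcg]
    exact genericPoint_eq_of_isOpenImmersion j
  have hbir : IsIso (g.stalkMap (genericPoint φ.image)) := by
    have h1 : IsIso ((φ.toImage ≫ g).stalkMap (genericPoint V)) := by
      rw [hcg]; infer_instance
    rw [Scheme.Hom.stalkMap_comp] at h1
    have h2 : IsIso (g.stalkMap (φ.toImage (genericPoint V))) :=
      @IsIso.of_isIso_comp_right _ _ _ _ _ (g.stalkMap (φ.toImage (genericPoint V)))
        (φ.toImage.stalkMap (genericPoint V)) inferInstance h1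
    rw [hgen] at h2
    exact h2
  have hiso : IsIso g := S4808.result hN g hgg hbir
  refine ⟨inv g ≫ φ.imageι, ?_, ?_⟩
  · rw [Category.assoc]
    exact IsIso.inv_hom_id g
  · rw [← hcg, Category.assoc, IsIso.hom_inv_id_assoc, Scheme.Hom.toImage_imageι]

end K843.ExtClosure
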