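import Groth.Agent.CanPar.K843.FieldPt
import Groth.Agent.CanPar.K843.ExtClosure
import Groth.Agent.CurvesC.RegNormal

/-!
# Extension of the parabolic subgroup over the whole curve in the case of equality of degrees
-/

set_option autoImplicit false
universe u

open CategoryTheory CategoryTheory.Limits MonoidalCategory CartesianMonoidalCategory MonObj GrpObj
open AlgebraicGeometry TopologicalSpace IsLocalRing

namespace K843.ExtAll

open Groth.Agent K795.OmQuot K795.OmegaGrp K795.GenZero K795.ParExt Groth.Agent.RedSub.H647.SubPt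
  Groth.Agent.VarietyA.DegRank K795.GenFib K843.CurveFib K843.KillChain K843.Main67 K843.FieldPt

theorem exists_lift_fiber' {X S : Scheme.{u}} (p : X ⟶ S) {K : Type u} [Field K]
    (x : Spec (CommRingCat.of K) ⟶ X) (s : S) (hs : p (x (closedPoint K)) = s) :
    ∃ y : Spec (CommRingCat.of K) ⟶ p.fiber s, y ≫ p.fiberι s = x := by
  subst hs
  exact exists_lift_fiber p x

/-- dimension of the fibre of a module at a field-valued point in an integral subscheme on which it is locally free -/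
theorem finrank_pt {X V : Scheme.{u}} [IsIntegral V] (j : V ⟶ X) {W : X.Modules} {E : V.Modules}
    (hE : FlatMod.IsFinLocFree E) (e : (Scheme.Modules.pullback j).obj W ≅ E) {K : Type u} [Field K]
    (x : Spec (CommRingCat.of K) ⟶ X) (y : Spec (CommRingCat.of K) ⟶ V) (hy : y ≫ j = x)
    (t : Spec (CommRingCat.of K)) :
    Module.finrank ((Spec (CommRingCat.of K)).presheaf.stalk t)
      (((Scheme.Modules.pullback x).obj W).presheaf.stalk t) = rk E := by
  have h1 := finrank_iso (cmp y j x hy W) t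
  have h2 := finrank_iso ((Scheme.Modules.pullback y).mapIso e) t
  have h3 := finrank_pullback hE y t
  have h4 := DimOmega.finrank_ofRank (isFinLocFreeOfRank_rk hE) (y t)
  exact h1.symm.trans (h2.trans (h3.trans h4))

variable {X : Scheme.{u}} [IsIntegral X] {G : Over X} [GrpObj G] [QuasiSeparated G.hom] (hG : Red.IsReductive G)
  {M : Over X} {H : Over M.left} [GrpObj H] {h : H ⟶ Red.bc M.hom G} (hM : RedSub.RepresentsPar G M H h)
  {V : Scheme.{u}} [IsIntegral V] {j : V ⟶ X} {φ : V ⟶ M.left} (hφ : φ ≫ M.hom = j)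
  {Q : Over V} [GrpObj Q] {jQ : Q ⟶ Red.bc j G} (hQ : Red.IsParabolic jQ) [IsMonHom jQ] [QuasiSeparated Q.hom]
  (fQ : Fam h jQ φ)
  {W : X.Modules} (hW : Coh.IsCoh W) (ρ : cn G ⟶ W) [Epi ρ] (hkW : Kills jQ (kernel.ι ρ))
  (hrk : ∀ (K : Type u) [Field K] (x : Spec (CommRingCat.of K) ⟶ X) (t : Spec (CommRingCat.of K)),
    Module.finrank ((Spec (CommRingCat.of K)).presheaf.stalk t)
      (((Scheme.Modules.pullback x).obj W).presheaf.stalk t) = rk (cn Q))

include hG hM hφ hQ fQ hW hkW hrk in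
/-- Two field-valued points of the closure of the section over the same point agree. -/
theorem points_eq {Z : Scheme.{u}} [IsIntegral Z] (c : V ⟶ Z) (iZ : Z ⟶ M.left)
    (hc : c (genericPoint V) = genericPoint Z) (hci : c ≫ iZ = φ) (K : Type u) [Field K]
    (z₁ z₂ : Spec (CommRingCat.of K) ⟶ Z) (hz : z₁ ≫ iZ ≫ M.hom = z₂ ≫ iZ ≫ M.hom) : z₁ ≫ iZ = z₂ ≫ iZ := by
  have hh : Red.IsParabolic h :=
    RedSub.H650.ParClosed.isParabolic (Groth.Agent.Sga3B.RedBcAny636.isReductive_bc M.hom hG) h hM.1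
  -- the family over `Z`
  obtain ⟨PZ, _, iP, hP, fP⟩ := exists_par_of_hom hG hh (iZ ≫ M.hom) iZ rfl
  -- the generic point
  obtain ⟨PL, _, iL, hL, fL⟩ := exists_par_of_hom hG hh (V.fromSpecStalk (genericPoint V) ≫ j)
    (V.fromSpecStalk (genericPoint V) ≫ φ) (by rw [Category.assoc, hφ])
  have := hP.1; have := hL.1
  have := mono_of_parabolic hQ; have := mono_of_parabolic hP; have := mono_of_parabolic hL
  have := quasiSeparated_of_parabolic hG hP; have := quasiSeparated_of_parabolic hG hL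
  have := hQ.2.2.1; have := hP.2.2.1; have := hL.2.2.1
  let a : Spec (V.presheaf.stalk (genericPoint V)) ⟶ Z := V.fromSpecStalk (genericPoint V) ≫ c
  have haf : a ≫ iZ ≫ M.hom = V.fromSpecStalk (genericPoint V) ≫ j := by
    rw [← hφ, ← hci]
    simp only [a, Category.assoc]
  have hag : a (closedPoint (V.presheaf.stalk (genericPoint V))) = genericPoint Z := by
    have h1 : a (closedPoint (V.presheaf.stalk (genericPoint V))) =
      c (V.fromSpecStalk (genericPoint V) (closedPoint (V.presheaf.stalk (genericPoint V)))) := rfl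
    rw [h1, Scheme.fromSpecStalk_closedPoint, hc]
  have haφ : a ≫ iZ = V.fromSpecStalk (genericPoint V) ≫ φ := by
    rw [← hci]
    simp only [a, Category.assoc]
  have hfield : IsField (V.presheaf.stalk (genericPoint V)) := Field.toIsField V.functionField
  have hfl : Flat a := by
    let _ := hfield.toField
    exact flat_of_generic a hag
  -- ranks
  have r1 := rk_pull (V.fromSpecStalk (genericPoint V)) rfl fQ (i' := iL) fL rfl
    (closedPoint (V.presheaf.stalk (genericPoint V)))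
  have r2 := rk_pull a haf fP (i' := iL) fL haφ (closedPoint (V.presheaf.stalk (genericPoint V)))
  rw [Scheme.fromSpecStalk_closedPoint] at r1
  rw [hag] at r2
  have r3 : rk (cn PZ) = rk (cn Q) := r2.symm.trans r1
  -- relations
  have k1 : Kills iL (kernel.ι ρ) :=
    kills_bc (V.fromSpecStalk (genericPoint V)) rfl jQ iL (fQ.pts _ (i' := iL) fL rfl) _ hkW
  have k2 : Kills iP (kernel.ι ρ) := kills_of_bc a haf iP iL (Fam.pts (φ := iZ) a fP fL haφ) _
    (closedPoint (V.presheaf.stalk (genericPoint V))) hag (isFinLocFree_cn PZ) k1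
  -- the two points
  have key : ∀ z : Spec (CommRingCat.of K) ⟶ Z, ∀ x : Spec (CommRingCat.of K) ⟶ X, z ≫ iZ ≫ M.hom = x →
      ∃ (P : Over (Spec (CommRingCat.of K))) (_ : GrpObj P) (i : P ⟶ Red.bc x G) (_ : IsMonHom i)
        (_ : QuasiSeparated P.hom) (θ : (Scheme.Modules.pullback x).obj W ⟶ cn P),
        Red.IsParabolic i ∧ Fam h i (z ≫ iZ) ∧ IsIso θ ∧ (Scheme.Modules.pullback x).map ρ ≫ θ = q i := by
    intro z x hzx
    obtain ⟨P, _, i, hi, fi⟩ := exists_par_of_hom hG hh x (z ≫ iZ) (by rw [Category.assoc, hzx])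
    have := hi.1
    have := mono_of_parabolic hi
    have := quasiSeparated_of_parabolic hG hi
    have := hi.2.2.1
    have k3 : Kills i (kernel.ι ρ) := kills_bc z hzx iP i (Fam.pts (φ := iZ) z fP fi rfl) _ k2
    obtain ⟨θ, hθ⟩ := Compare.exists_desc (Scheme.Modules.pullback x) ρ (q i) k3
    have hml : Mono i.left := inferInstance
    have he1 := epi_q i
    have he2 : Epi θ := by
      have : Epi ((Scheme.Modules.pullback x).map ρ ≫ θ) := by rw [hθ]; infer_instance
      exact epi_of_epi ((Scheme.Modules.pullback x).map ρ) θ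
    refine ⟨P, inferInstance, i, inferInstance, inferInstance, θ, hi, fi, ?_, hθ⟩
    refine isIso_of_finrank (FormalA.PullbackQC.isCoh_pullback _ _ hW) θ fun t => ?_
    rw [hrk K x t, rk_pull z hzx fP (i' := i) fi rfl t,
      DimOmega.finrank_ofRank (isFinLocFreeOfRank_rk (isFinLocFree_cn PZ)) (z t), r3]
  obtain ⟨P₁, _, i₁, _, _, θ₁, hi₁, f₁, hθ₁, e₁⟩ := key z₁ _ rfl
  obtain ⟨P₂, _, i₂, _, _, θ₂, hi₂, f₂, hθ₂, e₂⟩ := key z₂ _ hz.symm
  have hmm : ∀ {P P' : Over (Spec (CommRingCat.of K))} [GrpObj P] [GrpObj P']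
      {i : P ⟶ Red.bc (z₁ ≫ iZ ≫ M.hom) G} {i' : P' ⟶ Red.bc (z₁ ≫ iZ ≫ M.hom) G} [IsMonHom i] [IsMonHom i']
      [QuasiSeparated P.hom] [QuasiSeparated P'.hom]
      (θ : (Scheme.Modules.pullback (z₁ ≫ iZ ≫ M.hom)).obj W ⟶ cn P)
      (θ' : (Scheme.Modules.pullback (z₁ ≫ iZ ≫ M.hom)).obj W ⟶ cn P'), IsIso θ →
      (Scheme.Modules.pullback (z₁ ≫ iZ ≫ M.hom)).map ρ ≫ θ = q i →
      (Scheme.Modules.pullback (z₁ ≫ iZ ≫ M.hom)).map ρ ≫ θ' = q i' →
      ∀ {N : (Spec (CommRingCat.of K)).Modules} (k : N ⟶ (Scheme.Modules.pullback (z₁ ≫ iZ ≫ M.hom)).obj (cn G)),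
        k ≫ q i = 0 → k ≫ q i' = 0 := by
    intro P P' _ _ i i' _ _ _ _ θ θ' hθ hi hi' N k hk
    rw [← hi, ← Category.assoc] at hk
    have : k ≫ (Scheme.Modules.pullback (z₁ ≫ iZ ≫ M.hom)).map ρ = 0 :=
      (cancel_mono θ).1 (hk.trans zero_comp.symm)
    rw [← hi', ← Category.assoc, this, zero_comp]
  obtain ⟨g₁, hg₁⟩ := LieInj.exists_fac_pt hG _ hi₁ hi₂ (hmm θ₁ θ₂ hθ₁ e₁ e₂)
  obtain ⟨g₂, hg₂⟩ := LieInj.exists_fac_pt hG _ hi₂ hi₁ (hmm θ₂ θ₁ hθ₂ e₂ e₁)
  have hpt : Fam h i₁ (z₂ ≫ iZ) := by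
    intro T y g
    rw [← f₂ T y g]
    exact ⟨fun hh => pt_of_fac g₂ hg₂ hh, fun hh => pt_of_fac g₁ hg₁ hh⟩
  obtain ⟨ψ, -, huniq⟩ := existsUnique_hom_of_par hM (z₁ ≫ iZ ≫ M.hom) i₁ hi₁
  have u1 := huniq (z₁ ≫ iZ) ⟨Category.assoc _ _ _, f₁⟩
  have u2 := huniq (z₂ ≫ iZ) ⟨(Category.assoc _ _ _).trans hz.symm, hpt⟩
  rw [u1, u2]

end K843.ExtAll
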