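import Groth.Agent.CanPar.K843.DegBase
import Groth.Agent.CanPar.K843.Compare
import Groth.Agent.Sga3B.DimFib

/-!
# Fibres of a base change; constancy of the degree of a locally free module on the fibres
-/

set_option autoImplicit false
universe u

open CategoryTheory CategoryTheory.Limits AlgebraicGeometry

namespace K843.FibMap

open Groth.Agent K843.CurveFib K795.GenFib IsLocalRing K795.CurveBound K843.Compare Groth.Agent.VarietyA.DegRank
  K843.DegBase

variable {S S' X : Scheme.{u}} (p : X ⟶ S) (b : S' ⟶ S)

/-- The morphism between the fibres. -/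
theorem exists_fibMap {s' : S'} {s : S} (m : Spec (S'.residueField s') ⟶ Spec (S.residueField s))
    (hm : m ≫ S.fromSpecResidueField s = S'.fromSpecResidueField s' ≫ b) :
    ∃ c : (pullback.snd p b).fiber s' ⟶ p.fiber s,
      c ≫ p.fiberι s = (pullback.snd p b).fiberι s' ≫ pullback.fst p b ∧
      IsPullback c ((pullback.snd p b).fiberToSpecResidueField s') (p.fiberToSpecResidueField s) m := by
  let q := pullback.snd p b
  have hq : q.fiberι s' ≫ q = q.fiberToSpecResidueField s' ≫ S'.fromSpecResidueField s' := pullback.condition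
  let c : q.fiber s' ⟶ p.fiber s := pullback.lift (q.fiberι s' ≫ pullback.fst p b)
    (q.fiberToSpecResidueField s' ≫ m) (by
      rw [Category.assoc, Category.assoc, hm, pullback.condition, ← Category.assoc, ← Category.assoc]
      exact congrArg (· ≫ b) hq)
  have hc : c ≫ p.fiberι s = q.fiberι s' ≫ pullback.fst p b := pullback.lift_fst _ _ _
  refine ⟨c, hc, ?_⟩
  refine IsPullback.of_right (h₁₂ := p.fiberι s) (v₁₃ := p) (h₂₂ := S.fromSpecResidueField s) ?_
    (pullback.lift_snd _ _ _) (IsPullback.of_hasPullback _ _)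
  rw [hc, hm]
  exact (IsPullback.of_hasPullback q (S'.fromSpecResidueField s')).paste_horiz (IsPullback.of_hasPullback p b)

theorem surjective_of_field {K L : CommRingCat.{u}} (hK : IsField K) (hL : IsField L) (m : Spec L ⟶ Spec K) :
    Surjective m := by
  let := hK.toField
  let := hL.toField
  constructor
  intro x
  haveI : Subsingleton ↥(Spec K) := inferInstanceAs (Subsingleton (PrimeSpectrum K))
  haveI : Nonempty ↥(Spec L) := inferInstanceAs (Nonempty (PrimeSpectrum L))
  exact ⟨Classical.arbitrary _, Subsingleton.elim _ _⟩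

theorem map_genericPoint_of_surjective {Y Z : Scheme.{u}} [IrreducibleSpace Y] [IrreducibleSpace Z] (c : Y ⟶ Z)
    [Surjective c] : c (genericPoint Y) = genericPoint Z := by
  have h1 := (genericPoint_spec Y).image c.continuous
  have h2 : closure (c '' (Set.univ : Set Y)) = (Set.univ : Set Z) := by
    rw [Set.image_univ, c.surjective.range_eq, closure_univ]
  rw [h2] at h1
  exact h1.eq (genericPoint_spec Z)

theorem dg_congr (k : Type u) [Field k] {Y T : Scheme.{u}} [Y.Over (Spec (CommRingCat.of k))] [IrreducibleSpace Y]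
    {a b : Y ⟶ T} (h : a = b) (N : T.Modules) :
    dg k ((Scheme.Modules.pullback a).obj N) = dg k ((Scheme.Modules.pullback b).obj N) := by
  subst h
  rfl

section const

variable {R : Type u} [CommRing R] [IsDomain R] [IsDiscreteValuationRing R]
  {X : Scheme.{u}} (p : X ⟶ Spec (CommRingCat.of R)) [Smooth p] [IsProper p] [GeometricallyConnected p]

theorem dgF_map_const [IsIntegral (p.fiber (cpt R))] [IsIntegral (p.fiber (gpt R))] {T : Scheme.{u}} (m : X ⟶ T)
    {N : T.Modules} (hN : FlatMod.IsFinLocFree N) :
    dgF p (cpt R) ((Scheme.Modules.pullback (p.fiberι (cpt R) ≫ m)).obj N) =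
      dgF p (gpt R) ((Scheme.Modules.pullback (p.fiberι (gpt R) ≫ m)).obj N) := by
  have h1 : FlatMod.IsFinLocFree ((Scheme.Modules.pullback m).obj N) :=
    PerfC.PullRestrict.isFinLocFree_pullback _ hN
  have : IsLocallyNoetherian X := LocallyOfFiniteType.isLocallyNoetherian p
  have e := dgF_flat p (PerfA.CohSerre.isCoh_of_isFinLocFree h1)
    (K795.FibreRank.isFlatOver_of_isFinLocFree p h1)
  have e1 : dgF p (cpt R) ((Scheme.Modules.pullback (p.fiberι (cpt R))).obj ((Scheme.Modules.pullback m).obj N)) =
      dgF p (cpt R) ((Scheme.Modules.pullback (p.fiberι (cpt R) ≫ m)).obj N) := by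
    letI : (p.fiber (cpt R)).Over (Spec (CommRingCat.of ((Spec (CommRingCat.of R)).residueField (cpt R)))) :=
      ⟨p.fiberToSpecResidueField _⟩
    exact dg_iso _ ((Scheme.Modules.pullbackComp (p.fiberι (cpt R)) m).app N)
  have e2 : dgF p (gpt R) ((Scheme.Modules.pullback (p.fiberι (gpt R))).obj ((Scheme.Modules.pullback m).obj N)) =
      dgF p (gpt R) ((Scheme.Modules.pullback (p.fiberι (gpt R) ≫ m)).obj N) := by
    letI : (p.fiber (gpt R)).Over (Spec (CommRingCat.of ((Spec (CommRingCat.of R)).residueField (gpt R)))) :=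
      ⟨p.fiberToSpecResidueField _⟩
    exact dg_iso _ ((Scheme.Modules.pullbackComp (p.fiberι (gpt R)) m).app N)
  rw [← e1, ← e2, e]

end const

section base

variable {R R' : Type u} [CommRing R] [CommRing R']
  {X : Scheme.{u}} (p : X ⟶ Spec (CommRingCat.of R)) [IsProper p] {X' : Scheme.{u}} (p' : X' ⟶ Spec (CommRingCat.of R'))

/-- Degrees and extension of the base field, for fibres. -/
theorem dgF_base {s' : Spec (CommRingCat.of R')} {s : Spec (CommRingCat.of R)} [IsIntegral (p.fiber s)]
    [IsIntegral (p'.fiber s')]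
    {m : Spec ((Spec (CommRingCat.of R')).residueField s') ⟶ Spec ((Spec (CommRingCat.of R)).residueField s)}
    {c : p'.fiber s' ⟶ p.fiber s}
    (hc : IsPullback c (p'.fiberToSpecResidueField s') (p.fiberToSpecResidueField s) m) {T : Scheme.{u}}
    (ψ : p.fiber s ⟶ T) {N : T.Modules} (hN : FlatMod.IsFinLocFree N) :
    dgF p' s' ((Scheme.Modules.pullback (c ≫ ψ)).obj N) = dgF p s ((Scheme.Modules.pullback ψ).obj N) := by
  have hm : Spec.map (CommRingCat.ofHom (Spec.preimage m).hom) = m := Spec.map_preimage m
  have hpr : IsProper (p.fiberToSpecResidueField s) :=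
    MorphismProperty.of_isPullback (IsPullback.of_hasPullback p ((Spec (CommRingCat.of R)).fromSpecResidueField s))
      inferInstance
  have hs : Surjective m := surjective_of_field (Field.toIsField _) (Field.toIsField _) m
  have hs' : Surjective c := MorphismProperty.of_isPullback (P := @Surjective) hc.flip hs
  have e := dg_baseChange (Spec.preimage m).hom (p.fiberToSpecResidueField s) (p'.fiberToSpecResidueField s') c
    (by rw [hm]; exact hc) (map_genericPoint_of_surjective c)
    (F := (Scheme.Modules.pullback ψ).obj N) (PerfC.PullRestrict.isFinLocFree_pullback _ hN)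
  refine Eq.trans ?_ e
  letI : (p'.fiber s').Over (Spec (CommRingCat.of ((Spec (CommRingCat.of R')).residueField s'))) :=
    ⟨p'.fiberToSpecResidueField s'⟩
  exact (dg_iso _ ((Scheme.Modules.pullbackComp c ψ).app N)).symm

end base

end K843.FibMap
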