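import Groth.Agent.CanPar.K843.KillChain
import Groth.Agent.CanPar.K843.Compare

/-!
# Specialization of parabolic subgroups and degrees

`exists_spec_par`: a parabolic subgroup `Q` of the generic fibre of `G` gives a parabolic subgroup of the closed fibre,
the specialization, together with a flat coherent quotient `W` of `ω_G` restricting to `ω_Q`, and of which
`ω_P` is a quotient.
-/

set_option autoImplicit false
universe u

open CategoryTheory CategoryTheory.Limits MonoidalCategory CartesianMonoidalCategory MonObj GrpObj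
open AlgebraicGeometry TopologicalSpace IsLocalRing

namespace K843.Main67

open Groth.Agent K795.OmQuot K795.OmegaGrp K795.GenZero K795.ParExt Groth.Agent.RedSub.H647.SubPt
  Groth.Agent.VarietyA.DegRank K795.GenFib K795.CurveBound K843.CurveFib K843.FlatRank K843.KillChain
  K843.Compare

theorem isFinLocFreeOfRank_rk {X : Scheme.{u}} [IsIntegral X] {E : X.Modules} (hE : FlatMod.IsFinLocFree E) :
    FlatMod.IsFinLocFreeOfRank (rk E) E := by
  intro x
  obtain ⟨U, n, hU, ⟨e⟩⟩ := hE x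
  have hg : genericPoint X ∈ U := ((genericPoint_spec X).mem_open_set_iff U.2).2 ⟨x, trivial, hU⟩
  have h := K795.FibreRank.finrank_stalk e (genericPoint X) hg
  refine ⟨U, hU, ?_⟩
  rw [rk, h]
  exact ⟨e⟩

variable {R : Type u} [CommRing R] [IsDomain R] [IsDiscreteValuationRing R]
  {X : Scheme.{u}} (p : X ⟶ Spec (CommRingCat.of R)) [Smooth p] [IsProper p] [GeometricallyConnected p]

theorem deg_eq_dgF (s : Spec (CommRingCat.of R)) [IsIntegral (p.fiber s)] {Q : Over (p.fiber s)} [GrpObj Q]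
    [QuasiSeparated Q.hom] {m : ℕ} (hm : FlatMod.IsFinLocFreeOfRank m (LieS.omega Q)) :
    @Curv2.deg ((Spec (CommRingCat.of R)).residueField s) _ (p.fiber s) ⟨p.fiberToSpecResidueField _⟩
      (LieS.omega Q) m = dgF p s (cn Q) := by
  letI : (p.fiber s).Over (Spec (CommRingCat.of ((Spec (CommRingCat.of R)).residueField s))) :=
    ⟨p.fiberToSpecResidueField s⟩
  rw [deg_eq_dg _ hm]
  exact dg_iso _ (omegaIso Q)

variable (hdim : ∀ s : Spec (CommRingCat.of R), topologicalKrullDim (p.fiber s) = 1)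
  {G : Over X} [GrpObj G] (hG : Red.IsReductive G)

include hdim hG in
/-- The main specialization statement. -/
theorem exists_spec_par [QuasiSeparated G.hom] {M : Over X} {H : Over M.left} [GrpObj H]
    {h : H ⟶ Red.bc M.hom G} (hM : RedSub.RepresentsPar G M H h) [IsProper M.hom]
    [IsIntegral (p.fiber (cpt R))] [IsIntegral (p.fiber (gpt R))] [IsIntegral X]
    (Q : Over (p.fiber (gpt R))) [GrpObj Q] (j : Q ⟶ Red.bc (p.fiberι (gpt R)) G) (hQ : Red.IsParabolic j)
    [IsMonHom j] [QuasiSeparated Q.hom] :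
    ∃ (P : Over (p.fiber (cpt R))) (_ : GrpObj P)
      (i : P ⟶ Red.bc (p.fiberι (cpt R)) G) (_ : IsMonHom i) (_ : QuasiSeparated P.hom)
      (φ : p.fiber (gpt R) ⟶ M.left) (φ₀ : p.fiber (cpt R) ⟶ M.left)
      (a : Spec X.functionField ⟶ p.fiber (gpt R))
      (φA : Spec (X.presheaf.stalk (p.fiberι (cpt R) (genericPoint (p.fiber (cpt R))))) ⟶ M.left)
      (W : X.Modules) (ρ : cn G ⟶ W) (e : (Scheme.Modules.pullback (p.fiberι (gpt R))).obj W ≅ cn Q)
      (τ : (Scheme.Modules.pullback (p.fiberι (cpt R))).obj W ⟶ cn P),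
      Red.IsParabolic i ∧ Fam h j φ ∧ Fam h i φ₀ ∧
      φ ≫ M.hom = p.fiberι (gpt R) ∧ φ₀ ≫ M.hom = p.fiberι (cpt R) ∧
      a ≫ p.fiberι (gpt R) = X.fromSpecStalk (genericPoint X) ∧
      φA ≫ M.hom = X.fromSpecStalk (p.fiberι (cpt R) (genericPoint (p.fiber (cpt R)))) ∧
      Spec.map (X.presheaf.stalkSpecializes (genericPoint_specializes
        (p.fiberι (cpt R) (genericPoint (p.fiber (cpt R)))))) ≫ φA = a ≫ φ ∧
      Spec.map ((p.fiberι (cpt R)).stalkMap (genericPoint (p.fiber (cpt R)))) ≫ φA =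
        (p.fiber (cpt R)).fromSpecStalk (genericPoint (p.fiber (cpt R))) ≫ φ₀ ∧
      rk (cn Q) = rk (cn P) ∧
      Epi ρ ∧ Coh.IsCoh W ∧ FlatMod.IsFlatOver p W ∧
      (Scheme.Modules.pullback (p.fiberι (gpt R))).map ρ ≫ e.hom = q j ∧
      (Scheme.Modules.pullback (p.fiberι (cpt R))).map ρ ≫ τ = q i ∧ Epi τ ∧
      dgF p (cpt R) (cn P) ≤ dgF p (gpt R) (cn Q) ∧
      (dgF p (cpt R) (cn P) = dgF p (gpt R) (cn Q) → IsIso τ) := by
  have hh : Red.IsParabolic h :=
    RedSub.H650.ParClosed.isParabolic (Groth.Agent.Sga3B.RedBcAny636.isReductive_bc M.hom hG) h hM.1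
  have hoi := isOpenImmersion_fiberι R p
  have hsep := isSeparated_fiber p (cpt R)
  have hXN : IsLocallyNoetherian X := LocallyOfFiniteType.isLocallyNoetherian p
  have hYN : IsLocallyNoetherian (p.fiber (cpt R)) := isLocallyNoetherian_fiber p _
  obtain ⟨φ, ⟨hφ1, hφ2⟩, -⟩ := existsUnique_hom_of_par hM _ j hQ
  have hval : ∀ y : p.fiber (cpt R), ValuationRing ((p.fiber (cpt R)).presheaf.stalk y) := fun y =>
    (valuationRing_stalk_fiber p _ (hdim _) y).2
  obtain ⟨hd1, hd2⟩ := isDVR_stalk p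
  obtain ⟨a, φA, φ₀, ha, hA, h0, h1, h2⟩ := SpecHom.exists_spec (p.fiberι (gpt R)) hval
    (p.fiberι (cpt R)) inferInstance M.hom φ hφ1
  obtain ⟨P, _, i, hi, fi⟩ := exists_par_of_hom hG hh (p.fiberι (cpt R)) φ₀ h0
  have := hi.1
  have := quasiSeparated_of_parabolic hG hi
  have := mono_of_parabolic hQ
  have := mono_of_parabolic hi
  have := hi.2.2.1
  have := hQ.2.2.1
  have := hG.2.1
  have hml : Mono j.left := inferInstance
  have hml' : Mono i.left := inferInstance
  have hrk : rk (cn Q) = rk (cn P) := by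
    have h3 := rk_chain hG hh hφ1 h0 ha hA h1 h2 hQ hφ2 hi fi (closedPoint X.functionField)
    have h4 : a (closedPoint X.functionField) = genericPoint (p.fiber (gpt R)) := by
      apply (p.fiberι (gpt R)).isOpenEmbedding.injective
      have h5 : (p.fiberι (gpt R)) (a (closedPoint X.functionField)) =
        (a ≫ p.fiberι (gpt R)) (closedPoint X.functionField) := rfl
      rw [h5, ha, Scheme.fromSpecStalk_closedPoint]
      exact (genericPoint_eq_of_isOpenImmersion (p.fiberι (gpt R))).symm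
    rw [h4] at h3
    exact h3
  have hkill : ∀ {N : X.Modules} (k : N ⟶ cn G),
      (Scheme.Modules.pullback (p.fiberι (gpt R))).map k ≫ q j = 0 →
      (Scheme.Modules.pullback (p.fiberι (cpt R))).map k ≫ q i = 0 := fun k hk =>
    kills_chain hG hh hφ1 h0 ha hA h1 h2 hQ hφ2 hi fi k hk
  have := epi_q j
  have := epi_q i
  have hcG : Coh.IsCoh (cn G) := PerfA.CohSerre.isCoh_of_isFinLocFree (isFinLocFree_cn G)
  obtain ⟨W, ρ, e, τ, c1, c2, c3, c4, c5, c6, c7, c8⟩ := compare p hdim hcG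
    (PerfA.QCohEpi.isQCoh_of_isFinLocFree (isFinLocFree_cn Q)) (q j)
    (PerfA.CohSerre.isCoh_of_isFinLocFree (isFinLocFree_cn P)) (q i) hrk hkill
  exact ⟨P, inferInstance, i, inferInstance, inferInstance, φ, φ₀, a, φA, W, ρ, e, τ, hi, hφ2, fi, hφ1, h0, ha, hA,
    h1, h2, hrk, c1, c2, c3, c4, c5, c6, c7, c8⟩

end K843.Main67
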