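import Groth.Agent.CanPar.K843.LieInj
import Groth.Agent.CanPar.K843.Main67

/-!
# Field-valued points of a curve over a discrete valuation ring, ranks of quotients
-/

set_option autoImplicit false
universe u

open CategoryTheory CategoryTheory.Limits MonoidalCategory CartesianMonoidalCategory MonObj GrpObj
open AlgebraicGeometry TopologicalSpace IsLocalRing

namespace K843.FieldPt

open Groth.Agent K795.OmQuot K795.OmegaGrp K795.GenZero K795.ParExt Groth.Agent.RedSub.H647.SubPt
  Groth.Agent.VarietyA.DegRank K795.GenFib K843.CurveFib K843.KillChain K843.Main67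

theorem isField_stalk {K : Type u} [Field K] (t : Spec (CommRingCat.of K)) :
    IsField ((Spec (CommRingCat.of K)).presheaf.stalk t) := by
  have h : t = genericPoint (Spec (CommRingCat.of K)) := Subsingleton.elim (α := PrimeSpectrum K) _ _
  rw [h]
  exact Field.toIsField (Spec (CommRingCat.of K)).functionField

theorem isIso_of_finrank {K : Type u} [Field K] {A B : (Spec (CommRingCat.of K)).Modules} (hA : Coh.IsCoh A)
    (θ : A ⟶ B) [Epi θ] (h : ∀ t : Spec (CommRingCat.of K),
      Module.finrank ((Spec (CommRingCat.of K)).presheaf.stalk t) (A.presheaf.stalk t) =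
      Module.finrank ((Spec (CommRingCat.of K)).presheaf.stalk t) (B.presheaf.stalk t)) : IsIso θ := by
  have hm : Mono θ := by
    apply Groth.Agent.Dcoh.StalkMod.mono_of_injective
    intro t
    have h1 := Groth.Agent.CycB.StalkLoc.finite_stalk A hA t
    have h2 := Groth.Agent.CycB.StalkExact.stalkLin_surjective θ t
    let := (isField_stalk t).toField
    have h3 : Module.Finite ((Spec (CommRingCat.of K)).presheaf.stalk t) (B.presheaf.stalk t) :=
      Module.Finite.of_surjective (Groth.Agent.CycB.StalkExact.stalkLin θ t) h2
    exact (LinearMap.injective_iff_surjective_of_finrank_eq_finrank (h t)).2 h2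
  exact isIso_of_mono_of_epi θ

theorem isDomain_stalk {Z : Scheme.{u}} [IsIntegral Z] (z : Z) : IsDomain (Z.presheaf.stalk z) := inferInstance

/-- A field-valued point over the generic point of an integral scheme is flat. -/
theorem flat_of_generic {Z : Scheme.{u}} [IsIntegral Z] {K : CommRingCat.{u}} [IsLocalRing K]
    (g : Spec K ⟶ Z) (hg : g (closedPoint K) = genericPoint Z) : Flat g := by
  have h0 : Scheme.stalkClosedPointTo g = Scheme.stalkClosedPointTo g := rfl
  have h1 : Spec.map (Scheme.stalkClosedPointTo g) ≫ Z.fromSpecStalk (g (closedPoint K)) = g :=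
    Scheme.Spec_stalkClosedPointTo_fromSpecStalk g
  have h2 : Flat (Spec.map (Scheme.stalkClosedPointTo g)) := by
    rw [Flat.SpecMap_iff]
    have hf : IsField (Z.presheaf.stalk (g (closedPoint K))) := by
      rw [hg]; exact Field.toIsField Z.functionField
    let := hf.toField
    let := (Scheme.stalkClosedPointTo g).hom.toAlgebra
    exact (inferInstance : Module.Flat (Z.presheaf.stalk (g (closedPoint K))) K)
  rw [← h1]
  infer_instance

/-- A field-valued point of the total space factors through a fibre. -/
theorem exists_lift_fiber {X S : Scheme.{u}} (p : X ⟶ S) {K : Type u} [Field K]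
    (x : Spec (CommRingCat.of K) ⟶ X) :
    ∃ y : Spec (CommRingCat.of K) ⟶ p.fiber (p (x (closedPoint K))), y ≫ p.fiberι _ = x := by
  let e : S.residueField ((x ≫ p) (closedPoint K)) ⟶ CommRingCat.of K :=
    Scheme.descResidueField (Scheme.stalkClosedPointTo (x ≫ p))
  have h1 : Spec.map e ≫ S.fromSpecResidueField ((x ≫ p) (closedPoint K)) = x ≫ p :=
    Scheme.descResidueField_stalkClosedPointTo_fromSpecResidueField K S (x ≫ p)
  exact ⟨pullback.lift x (Spec.map e) h1.symm, pullback.lift_fst _ _ _⟩

end K843.FieldPt
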