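import Groth.Agent.CycB.StalkLoc
import Groth.Agent.CanPar.K843.CurveFib
import Groth.Agent.FDesc.K108.GenQuotOf
import Groth.Agent.VarietyA.DegRank
import Mathlib.RingTheory.LocalProperties.Projective

/-!
# Ranks of flat coherent modules on a curve over a discrete valuation ring

* `rk_flat`: the restrictions of a flat coherent module to the generic and to the closed fibre have the same rank.
-/

set_option autoImplicit false
universe u

open CategoryTheory CategoryTheory.Limits AlgebraicGeometry TopologicalSpace IsLocalRing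

namespace K843.FlatRank

open Groth.Agent Groth.Agent.CycB Groth.Agent.VarietyA.DegRank K795.GenFib K843.CurveFib

theorem finrank_pullback_of_free {T T' : Scheme.{u}} (E : T.Modules) (g : T' ⟶ T) (t' : T')
    (hf : Module.Free (T.presheaf.stalk (g t')) (E.presheaf.stalk (g t'))) :
    Module.finrank (T'.presheaf.stalk t') (((Scheme.Modules.pullback g).obj E).presheaf.stalk t') =
      Module.finrank (T.presheaf.stalk (g t')) (E.presheaf.stalk (g t')) := by
  letI := Groth.Agent.Fdesc.PullbackStalk.stalkAlg g t'
  have e := Groth.Agent.Fdesc.PullbackStalk.stalkPullbackEquiv g E t'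
  have hf' : Module.Free (T.presheaf.stalk (g.base t')) (E.presheaf.stalk (g.base t')) := hf
  rw [← e.finrank_eq, Module.finrank_baseChange]

theorem finrank_specialize {X : Scheme.{u}} {F : X.Modules} (hF : Coh.IsQCoh F) {x ξ : X} (h : ξ ⤳ x)
    (hf : Module.Free (X.presheaf.stalk x) (F.presheaf.stalk x)) :
    Module.finrank (X.presheaf.stalk ξ) (F.presheaf.stalk ξ) =
      Module.finrank (X.presheaf.stalk x) (F.presheaf.stalk x) := by
  letI := StalkLoc.specAlg h
  letI := StalkLoc.specMod F h
  haveI := StalkLoc.isScalarTower F h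
  haveI := StalkLoc.isLocalizedModule_specLin F hF h
  haveI := LocQuot.isLocalization_stalkSpecializes h
  exact Module.finrank_of_isLocalizedModule_of_free (X.presheaf.stalk ξ)
    (RingHom.ker (Cyc.specMap x ξ h)).primeCompl (StalkLoc.specLin F h)

variable {R : Type u} [CommRing R] [IsDomain R] [IsDiscreteValuationRing R]
  {X : Scheme.{u}} (p : X ⟶ Spec (CommRingCat.of R))

theorem isDVR_base : ∃ _ : IsDomain ((Spec (CommRingCat.of R)).presheaf.stalk (closedPoint R)),
    IsDiscreteValuationRing ((Spec (CommRingCat.of R)).presheaf.stalk (closedPoint R)) := by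
  let _ : Algebra R ((Spec (CommRingCat.of R)).presheaf.stalk (closedPoint R)) :=
    StructureSheaf.stalkAlgebra R (closedPoint R)
  have h1 : IsLocalization.AtPrime ((Spec (CommRingCat.of R)).presheaf.stalk (closedPoint R))
      (closedPoint R).asIdeal := StructureSheaf.IsLocalization.to_stalk R (closedPoint R)
  have hdom : IsDomain ((Spec (CommRingCat.of R)).presheaf.stalk (closedPoint R)) :=
    IsLocalization.isDomain_of_atPrime _ (closedPoint R).asIdeal
  have hne : (closedPoint R).asIdeal ≠ ⊥ := IsDiscreteValuationRing.not_a_field R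
  exact ⟨hdom, IsLocalization.AtPrime.isDiscreteValuationRing_of_dedekind_domain R hne _⟩

/-- The stalks of a flat coherent module at the points of a scheme with local ring generated by the uniformizer. -/
theorem free_stalk {W : X.Modules} (hW : Coh.IsCoh W) (hfl : FlatMod.IsFlatOver p W) (x : X)
    (hx : p x = cpt R) (hgen : Sga7.H756.GenPt.IsGenAt p x)
    [IsDomain (X.presheaf.stalk x)] [IsDiscreteValuationRing (X.presheaf.stalk x)] :
    Module.Free (X.presheaf.stalk x) (W.presheaf.stalk x) := by
  have hfin := StalkLoc.finite_stalk W hW x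
  have hB : ∃ _ : IsDomain ((Spec (CommRingCat.of R)).presheaf.stalk (p x)),
      IsDiscreteValuationRing ((Spec (CommRingCat.of R)).presheaf.stalk (p x)) := by
    rw [hx]; exact isDVR_base
  obtain ⟨hd, hdvr⟩ := hB
  obtain ⟨ϖ, hϖ⟩ := IsDiscreteValuationRing.exists_irreducible ((Spec (CommRingCat.of R)).presheaf.stalk (p x))
  have h1 : Irreducible (p.stalkMap x ϖ) := by
    rw [IsDiscreteValuationRing.irreducible_iff_uniformizer, ← hgen, hϖ.maximalIdeal_eq, Ideal.map_span,
      Set.image_singleton]
  have h2 := (K108.GenFib.isFlatOverAt_iff p W x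
    ⟨(K108.GenQuotOf.stalk_dedekind R (p x)).1, (K108.GenQuotOf.stalk_dedekind R (p x)).2⟩).1 (hfl x)
  have h3 : ∀ (n : ℕ) (s : W.presheaf.stalk x), (p.stalkMap x ϖ) ^ n • s = 0 → s = 0 := by
    intro n s hs
    refine h2 (ϖ ^ n) s (pow_ne_zero n hϖ.ne_zero) ?_
    rw [map_pow]
    exact hs
  have h4 : Module.IsTorsionFree (X.presheaf.stalk x) (W.presheaf.stalk x) := by
    refine .of_smul_eq_zero fun a s has => ?_
    by_cases ha : a = 0
    · exact Or.inl ha
    · right
      obtain ⟨n, u, rfl⟩ := IsDiscreteValuationRing.eq_unit_mul_pow_irreducible ha h1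
      rw [mul_smul] at has
      exact h3 n s ((u.isUnit.smul_eq_zero).1 has)
  infer_instance

variable [Smooth p] [GeometricallyConnected p]

/-- The two restrictions of a flat coherent module have the same rank. -/
theorem rk_flat [IsIntegral (p.fiber (cpt R))] [IsIntegral (p.fiber (gpt R))] {W : X.Modules}
    (hW : Coh.IsCoh W) (hfl : FlatMod.IsFlatOver p W) :
    rk ((Scheme.Modules.pullback (p.fiberι (cpt R))).obj W) =
      rk ((Scheme.Modules.pullback (p.fiberι (gpt R))).obj W) := by
  have hX := isIntegral_total p
  have : IsLocallyNoetherian X := LocallyOfFiniteType.isLocallyNoetherian p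
  obtain ⟨h1, h2⟩ := isDVR_stalk p
  have hf := free_stalk p hW hfl (p.fiberι (cpt R) (genericPoint (p.fiber (cpt R))))
    (CycB.FiberKer.apply_fiberι p _ _) (Sga7.H756.GenPt.isGenAt_fiberι p _ _
      (Field.toIsField (p.fiber (cpt R)).functionField))
  have hj := isOpenImmersion_fiberι R p
  have hg : p.fiberι (gpt R) (genericPoint (p.fiber (gpt R))) = genericPoint X :=
    genericPoint_eq_of_isOpenImmersion (p.fiberι (gpt R))
  have hf2 : Module.Free (X.presheaf.stalk (p.fiberι (gpt R) (genericPoint (p.fiber (gpt R)))))
      (W.presheaf.stalk (p.fiberι (gpt R) (genericPoint (p.fiber (gpt R))))) := by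
    rw [hg]
    exact Module.Free.of_divisionRing X.functionField (W.presheaf.stalk (genericPoint X))
  have e1 := finrank_pullback_of_free W (p.fiberι (cpt R)) _ hf
  have e2 := finrank_pullback_of_free W (p.fiberι (gpt R)) _ hf2
  have e3 := finrank_specialize hW.1 (genericPoint_specializes
    (p.fiberι (cpt R) (genericPoint (p.fiber (cpt R))))) hf
  rw [rk, rk, e1, e2, ← e3, hg]

end K843.FlatRank
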