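import Groth.Agent.CanPar.K204.FinS

/-!
# The largest parabolic subgroup of maximal degree over a finite étale covering, in terms of classifying morphisms
-/

set_option autoImplicit false
universe u

open CategoryTheory CategoryTheory.Limits AlgebraicGeometry MonoidalCategory CartesianMonoidalCategory
  MonObj GrpObj

namespace K843.LargestLe

open Groth.Agent Groth.Agent.Sga3B Groth.Agent.Sga3B.MT Groth.Agent.RedSub.H647.SubPt
  Groth.Agent.RedSub.H647.SubF.SubClass Groth.Agent.RedSub.H660.Classes K795.ParExt K204.ParSec K204.ParSec.ParData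
  Groth.Agent.RedSub.H660.Restrict K204.FinS Groth.Agent.CanPar.K795.Iface Groth.Agent.Sga3B.BcPts
  Groth.Agent.RedSub.H647.SubF

variable {X : Scheme.{u}} {G : Over X} [GrpObj G] (D : ParData G)

theorem isParabolic_upw {V S' : Scheme.{u}} (v : V ⟶ X) {q : S' ⟶ V} {H : Over S'} [GrpObj H]
    (h : H ⟶ Red.bc (q ≫ v) G) (hh : Red.IsParabolic h) : Red.IsParabolic (upw v (q := q) h) := by
  rw [← good_isParabolic.down_iff v (upw v (q := q) h), down_upw]
  exact hh

theorem down_map {V S' : Scheme.{u}} (v : V ⟶ X) (q : S' ⟶ V) {P : Over V} (i : P ⟶ Red.bc v G) :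
    down v ((Over.pullback q).map i) = bcSub q i := by
  rw [down, und_bcCompIso_symm]
  rfl

variable {Z : Scheme.{u}} (f : Z ⟶ X) (hC : CoreSplit.{u}) (k : Type u) [Field k] [Z.Over (Spec (CommRingCat.of k))]
    [IsIntegral Z] [IsProper (Z ↘ Spec (CommRingCat.of k))] (hval : ∀ x : Z, ValuationRing (Z.presheaf.stalk x))
    (hdim : topologicalKrullDim Z = 1)
    {Y : Scheme.{u}} [Y.Over (Spec (CommRingCat.of k))] [IsIntegral Y] [IsProper (Y ↘ Spec (CommRingCat.of k))]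
    (hvalY : ∀ y : Y, ValuationRing (Y.presheaf.stalk y)) (hdimY : topologicalKrullDim Y = 1)
    (a : Y ⟶ Z) [IsFinite a] (ha : a ≫ (Z ↘ Spec (CommRingCat.of k)) = Y ↘ Spec (CommRingCat.of k))
    (hsep : ∃ U : Y.Opens, (U : Set Y).Nonempty ∧ Etale (U.ι ≫ a))
    {P : Over Z} [GrpObj P] {i : P ⟶ Red.bc f G} (hP : Red.IsParabolic i) {n : ℕ}
    (hn : FlatMod.IsFinLocFreeOfRank n (LieS.omega P))
    (hmax : ∀ (Q : Over Z) [GrpObj Q] (j : Q ⟶ Red.bc f G), Red.IsParabolic j →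
        ∀ m : ℕ, FlatMod.IsFinLocFreeOfRank m (LieS.omega Q) →
          -Curv2.deg k Z (LieS.omega Q) m ≤ -Curv2.deg k Z (LieS.omega P) n ∧
          (Curv2.deg k Z (LieS.omega Q) m = Curv2.deg k Z (LieS.omega P) n → ∃ f : Q ⟶ P, f ≫ i = j))
    {φ : Z ⟶ D.M.left} (hφ : φ ≫ D.M.hom = f) (hφ' : D.Of i φ)

include hC hval hdim hvalY hdimY ha hsep hP hn hmax hφ hφ' in
theorem largest_le (ψ : Y ⟶ D.M.left) (hψ : ψ ≫ D.M.hom = a ≫ f) (hdg : D.dg k ψ = D.dg k (a ≫ φ)) :
    D.Le ψ (a ≫ φ) := by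
  obtain ⟨Q, _, j, hj, fj⟩ := exists_par_of_hom D.red D.par (a ≫ f) ψ hψ
  obtain ⟨m, hm⟩ := exists_omega_rank D.red hj
  have hGf := RedBcAny636.isReductive_bc f D.red
  have hPa : Red.IsParabolic ((Over.pullback a).map i) := good_isParabolic.bc a hGf hP
  have hPb : Red.IsParabolic (bcSub a i) := by
    rw [good_isParabolic.bcSub_iff]
    exact hPa
  obtain ⟨n', hn'⟩ := exists_omega_rank D.red hPb
  have h := largest_pullback' hC k Z Y hval hdim hvalY hdimY a ha hsep (Red.bc f G) hGf P i hP n hn hmax n' hn' Q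
    (upw f (q := a) j) (isParabolic_upw f j hj) m hm
  have e1 : Curv2.deg k Y (LieS.omega Q) m = D.dg k ψ := deg_eq k hj hψ fj hm
  have hOf : D.Of (bcSub a i) (a ≫ φ) := fun W y g => by
    rw [pt_bcSub, hφ' W (y ≫ a) g, Category.assoc]
  have e2 : Curv2.deg k Y (LieS.omega (Red.bc a P)) n' = D.dg k (a ≫ φ) :=
    deg_eq k hPb (by rw [Category.assoc, hφ]) hOf hn'
  obtain ⟨u, hu⟩ := h.2 (by rw [e1, e2, hdg])
  intro W y g hg
  rw [← fj] at hg
  rw [← hOf]
  refine pt_of_fac u ?_ hg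
  rw [← down_map, down, ← Category.assoc, hu]
  exact down_upw f j

end K843.LargestLe
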