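import Groth.Agent.CanPar.K843.ConInter
import Groth.Agent.CanPar.K843.DimOmega
import Groth.Agent.CanPar.K843.CurveFib
import Groth.Agent.Sga3B.Parab.Inter
import Groth.Agent.Par.K546.DimPar
import Groth.Agent.S8495
import Groth.Agent.S10839

/-!
# Parabolic subgroups over a field and their Lie algebras

`exists_fac`: if `Lie Q ⊆ Lie P` (in the form: every relation in `ω_G` which holds in `ω_P` holds in `ω_Q`) then
`Q ⊆ P`.
-/

set_option autoImplicit false
universe u

open CategoryTheory CategoryTheory.Limits MonoidalCategory CartesianMonoidalCategory MonObj GrpObj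
open AlgebraicGeometry

namespace K843.LieInj

open Groth.Agent K795.OmegaGrp K795.OmQuot K843.KillChain Groth.Agent.Grpsch.ConormalIso
  Groth.Agent.RedSub.H647.SubPt

section field

variable {K : Type u} [Field K]

theorem isIntegral_of_connected (Q : Over (Spec (CommRingCat.of K))) [GrpObj Q] [Smooth Q.hom]
    (h : ∀ s : Spec (CommRingCat.of K), ConnectedSpace (Red.geomFibre s Q).left) : IsIntegral Q.left := by
  have hn : IsLocallyNoetherian Q.left := LocallyOfFiniteType.isLocallyNoetherian Q.hom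
  letI : Q.left.Over (Spec (CommRingCat.of K)) := ⟨Q.hom⟩
  haveI : Smooth (Q.left ↘ (Spec (CommRingCat.of K))) := inferInstanceAs (Smooth Q.hom)
  rw [Ega1.GenPts.isIntegral_iff]
  refine ⟨?_, fun z => ?_⟩
  · let s : Spec (CommRingCat.of K) := (IsLocalRing.closedPoint K : PrimeSpectrum K)
    have h1 := h s
    have h2 : Function.Surjective (pullback.fst Q.hom (Red.geomPt s)) := by
      intro x
      have e : Q.hom x = (Red.geomPt s) (IsLocalRing.closedPoint (AlgebraicClosure
          ((Spec (CommRingCat.of K)).residueField s))) :=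
        Subsingleton.elim (α := PrimeSpectrum K) _ _
      obtain ⟨y, hy, -⟩ := Scheme.Pullback.exists_preimage_pullback (f := Q.hom) (g := Red.geomPt s) x _ e
      exact ⟨y, hy⟩
    have h3 : ConnectedSpace ↥(pullback Q.hom (Red.geomPt s)) := h1
    exact h2.connectedSpace (pullback.fst Q.hom (Red.geomPt s)).continuous
  · have := S1535.result K Q.left z
    exact S0558.result _

/-- the two squares at the unit section -/
theorem wun {S : Scheme.{u}} {G P : Over S} [GrpObj G] [GrpObj P] (p : P ⟶ G) [IsMonHom p] :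
    un P ≫ p.left = 𝟙 S ≫ un G := by
  rw [un_comp, Category.id_comp]

/-- the map of conormal modules attached to a homomorphism -/
noncomputable def cm {S : Scheme.{u}} {G P : Over S} [GrpObj G] [GrpObj P] [QuasiSeparated G.hom]
    [QuasiSeparated P.hom] (p : P ⟶ G) [IsMonHom p] : (Scheme.Modules.pullback (𝟙 S)).obj (cn G) ⟶ cn P :=
  haveI := qc_un G
  haveI := qc_un P
  conormalMap (wun p)

theorem isIso_of_kills' {S : Scheme.{u}} {G P Q I : Scheme.{u}} (p : P ⟶ G) (q : Q ⟶ G) (m : I ⟶ P) (m' : I ⟶ Q)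
    (hI : IsPullback m' m q p) (eP : S ⟶ P) (eI : S ⟶ I) (h1 : eI ≫ m = eP)
    [IsPreimmersion p] [QuasiCompact p] [IsPreimmersion m'] [QuasiCompact m'] [IsPreimmersion eP]
    [QuasiCompact eP] [IsPreimmersion eI] [QuasiCompact eI] (eG : S ⟶ G) (hG : eP ≫ p = eG) (eQ : S ⟶ Q)
    (hQ : eI ≫ m' = eQ) [QuasiCompact eG] [QuasiCompact eQ]
    (wP : eP ≫ p = 𝟙 S ≫ eG) (wQ : eQ ≫ q = 𝟙 S ≫ eG) (wI : eI ≫ m' = 𝟙 S ≫ eQ)
    (hk : ∀ {N : S.Modules} (k : N ⟶ (Scheme.Modules.pullback (𝟙 S)).obj (Omega.conormal eG)),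
      k ≫ conormalMap wP = 0 → k ≫ conormalMap wQ = 0) :
    IsIso (conormalMap wI) := by
  subst hG
  subst hQ
  exact ConInter.isIso_of_kills p q m m' hI eP eI h1 wP wQ wI hk

variable {G P Q : Over (Spec (CommRingCat.of K))} [GrpObj G] [GrpObj P] [GrpObj Q]

/-- `Lie Q ⊆ Lie P` implies `Q ⊆ P`. -/
theorem exists_fac (hG : Red.IsReductive G) {p : P ⟶ G} {q : Q ⟶ G} (hp : Red.IsParabolic p)
    (hq : Red.IsParabolic q) [IsMonHom p] [IsMonHom q] [QuasiSeparated G.hom] [QuasiSeparated P.hom]
    [QuasiSeparated Q.hom]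
    (hk : ∀ {N : (Spec (CommRingCat.of K)).Modules}
      (k : N ⟶ (Scheme.Modules.pullback (𝟙 (Spec (CommRingCat.of K)))).obj (cn G)),
      k ≫ cm p = 0 → k ≫ cm q = 0) : ∃ f : Q ⟶ P, f ≫ p = q := by
  have := hp.2.1
  have := hq.2.1
  have : Mono p := Over.mono_of_mono_left _
  have : Mono q := Over.mono_of_mono_left _
  obtain ⟨I, _, m, m', hm, hm', hI⟩ := Sga3B.Parab.Inter.exists_inter p q
  obtain ⟨hIs, -⟩ := S8495.result K hG p q hp hq m m' hI
  have hIl : IsPullback m.left m'.left p.left q.left := hI.map (Over.forget _)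
  have hcm : IsClosedImmersion m.left := MorphismProperty.of_isPullback hIl.flip inferInstance
  have hcm' : IsClosedImmersion m'.left := MorphismProperty.of_isPullback hIl inferInstance
  have hqI : QuasiSeparated I.hom := by
    rw [← Over.w m]
    infer_instance
  have hqs := hq.2.2.1
  have hps := hp.2.2.1
  have hiso : IsIso (cm m') := by
    have := qc_un G
    have := qc_un P
    have := qc_un Q
    have := qc_un I
    have := preimm_un P
    have := preimm_un I
    exact isIso_of_kills' p.left q.left m.left m'.left hIl.flip (un P) (un I) (un_comp m) (un G) (un_comp p)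
      (un Q) (un_comp m') (wun p) (wun q) (wun m') hk
  let t : Spec (CommRingCat.of K) := (IsLocalRing.closedPoint K : PrimeSpectrum K)
  have d1 := DimOmega.dim_eq Q t
  have d2 := DimOmega.dim_eq I t
  have e1 := finrank_iso (asIso (cm m')) t
  have e2 := finrank_pullback (isFinLocFree_cn Q) (𝟙 (Spec (CommRingCat.of K))) t
  have e3 : Module.finrank ((Spec (CommRingCat.of K)).presheaf.stalk t) ((cn Q).presheaf.stalk t) =
      Module.finrank ((Spec (CommRingCat.of K)).presheaf.stalk t) ((cn I).presheaf.stalk t) :=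
    e2.symm.trans e1
  have hint : IsIntegral Q.left := isIntegral_of_connected Q
    (fun s => K546.DimPar.connectedSpace_geomFibre hG hq s)
  have h3 : IsIso m'.left := by
    refine S10839.result m'.left ?_ ?_
    · rw [d1]
      exact fun h => ENat.coe_ne_top _ (WithBot.coe_injective h)
    · rw [d1, d2, e3]
  have h4 : IsIso ((Over.forget _).map m') := h3
  have h5 : IsIso m' := isIso_of_reflects_iso m' (Over.forget _)
  exact ⟨inv m' ≫ m, by rw [Category.assoc, hI.w, IsIso.inv_hom_id_assoc]⟩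

end field

section pt

variable {X T : Scheme.{u}} {G : Over X} [GrpObj G] [QuasiSeparated G.hom] (f : T ⟶ X)

theorem quasiSeparated_bc : QuasiSeparated (Red.bc f G).hom := by
  change QuasiSeparated (pullback.snd G.hom f)
  infer_instance

/-- the quotient map for a subgroup of `G_T`, in terms of the group `G_T` -/
theorem exists_theta [QuasiSeparated (Red.bc f G).hom] :
    ∃ θ : (Scheme.Modules.pullback f).obj (cn G) ≅ (Scheme.Modules.pullback (𝟙 T)).obj (cn (Red.bc f G)),
    ∀ {H : Over T} [GrpObj H] [QuasiSeparated H.hom] (h : H ⟶ Red.bc f G) [IsMonHom h],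
      q h = θ.hom ≫ cm h := by
  have := qc_un G
  have := qc_un (Red.bc f G)
  have := preimm_un (Red.bc f G)
  have h1 := isIso_conormalMap_bc (G := G) f
  refine ⟨((Scheme.Modules.pullbackCongr (Category.id_comp f)).app _).symm ≪≫
      ((Scheme.Modules.pullbackComp (𝟙 T) f).app _).symm ≪≫
      (Scheme.Modules.pullback (𝟙 T)).mapIso (asIso (conormalMap (un_bc f G))), ?_⟩
  intro H _ _ h _
  have := qc_un H
  have w'' : un H ≫ (h.left ≫ pullback.fst G.hom f) = (𝟙 T ≫ f) ≫ un G := by
    rw [Category.id_comp]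
    exact un_phi h
  have h3 := K795.ConComp.conormalMap_comp (un_bc f G) (wun h) w''
  have h4 := conormalMap_congr rfl (Category.id_comp f) w'' (un_phi h)
  have h5 : q h = (Scheme.Modules.pullbackCongr (Category.id_comp f)).inv.app _ ≫
      (Scheme.Modules.pullbackComp (𝟙 T) f).inv.app _ ≫
      (Scheme.Modules.pullback (𝟙 T)).map (conormalMap (un_bc f G)) ≫ cm h := by
    rw [cm, ← h3, Iso.inv_hom_id_app_assoc, h4, Iso.inv_hom_id_app_assoc]
    rfl
  rw [h5]
  simp

end pt

/-- `Lie Q ⊆ Lie P` implies `Q ⊆ P`, for parabolic subgroups of the fibre of `G` at a field-valued point. -/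
theorem exists_fac_pt {X : Scheme.{u}} {G : Over X} [GrpObj G] [QuasiSeparated G.hom] (hG : Red.IsReductive G)
    {K : Type u} [Field K] (x : Spec (CommRingCat.of K) ⟶ X)
    {P Q : Over (Spec (CommRingCat.of K))} [GrpObj P] [GrpObj Q] {p : P ⟶ Red.bc x G} {q' : Q ⟶ Red.bc x G}
    (hp : Red.IsParabolic p) (hq : Red.IsParabolic q') [IsMonHom p] [IsMonHom q'] [QuasiSeparated P.hom]
    [QuasiSeparated Q.hom]
    (hk : ∀ {N : (Spec (CommRingCat.of K)).Modules} (k : N ⟶ (Scheme.Modules.pullback x).obj (cn G)),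
      k ≫ q p = 0 → k ≫ q q' = 0) : ∃ f : Q ⟶ P, f ≫ p = q' := by
  have h1 := quasiSeparated_bc (G := G) x
  obtain ⟨θ, hθ⟩ := exists_theta (G := G) x
  refine exists_fac (Groth.Agent.Sga3B.RedBcAny636.isReductive_bc x hG) hp hq fun {N} k h => ?_
  have h2 := hk (k ≫ θ.inv) (by rw [hθ, Category.assoc, Iso.inv_hom_id_assoc, h])
  rwa [hθ, Category.assoc, Iso.inv_hom_id_assoc] at h2

end K843.LieInj
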