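import Groth.Agent.CanPar.K843.SteinSec

/-!
# Extension of sections of finite étale coverings from the closed fibre
-/

set_option autoImplicit false
universe u

open CategoryTheory CategoryTheory.Limits AlgebraicGeometry

namespace K843.SteinExt

open Groth.Agent K843.CurveFib K795.GenFib K843.EtSec K843.SteinSec IsLocalRing

theorem isGenAt_of_unramified {Y S : Scheme.{u}} (b : Y ⟶ S) [FormallyUnramified b] [LocallyOfFiniteType b] (y : Y) :
    Sga7.H756.GenPt.IsGenAt b y := by
  letI : Algebra (S.presheaf.stalk (b y)) (Y.presheaf.stalk y) := (b.stalkMap y).hom.toAlgebra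
  have h1 : IsLocalHom (algebraMap (S.presheaf.stalk (b y)) (Y.presheaf.stalk y)) :=
    inferInstanceAs <| IsLocalHom (b.stalkMap y).hom
  have h3 : Algebra.EssFiniteType (S.presheaf.stalk (b y)) (Y.presheaf.stalk y) := by
    rw [← RingHom.essFiniteType_algebraMap, RingHom.algebraMap_toAlgebra]
    exact LocallyOfFiniteType.stalkMap b y
  have h4 : Algebra.FormallyUnramified (S.presheaf.stalk (b y)) (Y.presheaf.stalk y) := by
    rw [← RingHom.formallyUnramified_algebraMap, RingHom.algebraMap_toAlgebra]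
    exact FormallyUnramified.stalkMap b y
  exact Algebra.FormallyUnramified.map_maximalIdeal (R := S.presheaf.stalk (b y)) (S := Y.presheaf.stalk y)

theorem isIso_residueFieldMap {Y S : Scheme.{u}} (t : Y ⟶ S) [IsPreimmersion t] (y : Y) :
    IsIso (t.residueFieldMap y) := by
  have h1 : Function.Surjective (t.stalkMap y) := t.stalkMap_surjective y
  have h2 : Function.Surjective (t.residueFieldMap y) := by
    intro z
    obtain ⟨w, rfl⟩ := Y.residue_surjective y z
    obtain ⟨v, rfl⟩ := h1 w
    refine ⟨S.residue (t y) v, ?_⟩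
    have h3 := congr($(Scheme.residue_residueFieldMap t y) v)
    simpa using h3
  have h3 : Function.Injective (t.residueFieldMap y) := (t.residueFieldMap y).hom.injective
  exact (ConcreteCategory.isIso_iff_bijective _).2 ⟨h3, h2⟩

section dvr

variable (R : Type u) [CommRing R] [IsDomain R] [IsDiscreteValuationRing R]

theorem eq_gpt_of_ne {z : Spec (CommRingCat.of R)} (h : z ≠ cpt R) : z = gpt R := by
  by_contra h1
  apply h
  have h2 : z.asIdeal ≠ ⊥ := fun h3 => h1 (PrimeSpectrum.ext h3)
  have h3 : z.asIdeal.IsMaximal := Ring.DimensionLEOne.maximalOfPrime h2 z.2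
  exact PrimeSpectrum.ext (IsLocalRing.eq_maximalIdeal h3)

theorem gpt_ne_cpt : gpt R ≠ cpt R := by
  intro h
  exact IsDiscreteValuationRing.not_a_field R (congrArg (fun z : PrimeSpectrum R => z.asIdeal) h).symm

theorem gpt_specializes (z : Spec (CommRingCat.of R)) : gpt R ⤳ z := by
  have key : ∀ z : PrimeSpectrum R, (⟨⊥, Ideal.isPrime_bot⟩ : PrimeSpectrum R) ⤳ z := fun z =>
    (PrimeSpectrum.le_iff_specializes _ z).1 (fun _ hx => by rw [(Submodule.mem_bot R).1 hx]; exact z.asIdeal.zero_mem)
  exact key z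

end dvr

variable {R : Type u} [CommRing R] [IsDomain R] [IsDiscreteValuationRing R]
  {X : Scheme.{u}} (p : X ⟶ Spec (CommRingCat.of R)) [Smooth p] [IsProper p] [GeometricallyConnected p]
  {E : Scheme.{u}} (e : E ⟶ X) [IsFinite e] [Etale e]

/-- **Extension of a section over the closed fibre to a section over `X ×_R R'`.** -/
theorem exists_ext (σ : p.fiber (cpt R) ⟶ E) (hσ : σ ≫ e = p.fiberι (cpt R)) :
    ∃ (R' : Type u) (_ : CommRing R') (_ : IsDomain R') (_ : IsDiscreteValuationRing R')
      (b' : Spec (CommRingCat.of R') ⟶ Spec (CommRingCat.of R)) (τ : pullback p b' ⟶ E)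
      (m₀ : Spec ((Spec (CommRingCat.of R')).residueField (cpt R')) ⟶
        Spec ((Spec (CommRingCat.of R)).residueField (cpt R)))
      (m : Spec ((Spec (CommRingCat.of R')).residueField (gpt R')) ⟶
        Spec ((Spec (CommRingCat.of R)).residueField (gpt R))),
      m₀ ≫ (Spec (CommRingCat.of R)).fromSpecResidueField (cpt R) =
        (Spec (CommRingCat.of R')).fromSpecResidueField (cpt R') ≫ b' ∧
      m ≫ (Spec (CommRingCat.of R)).fromSpecResidueField (gpt R) =
        (Spec (CommRingCat.of R')).fromSpecResidueField (gpt R') ≫ b' ∧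
      Etale m ∧ IsFinite m ∧ τ ≫ e = pullback.fst p b' ∧
      ∀ c₀ : (pullback.snd p b').fiber (cpt R') ⟶ p.fiber (cpt R),
        c₀ ≫ p.fiberι (cpt R) = (pullback.snd p b').fiberι (cpt R') ≫ pullback.fst p b' →
          (pullback.snd p b').fiberι (cpt R') ≫ τ = c₀ ≫ σ := by
  obtain ⟨S', b, ψ, s, σ₁, hb1, hb2, hs, hψ1, hfin, het, hiso, hσ₁, y, hy, hy1⟩ := exists_degree_one p e σ hσ
  have hnoeth : IsLocallyNoetherian S' := LocallyOfFiniteType.isLocallyNoetherian b
  obtain ⟨hd, hdvr⟩ := Sga7.H756.GenPt.exists_isDVR b hs (isGenAt_of_unramified b s)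
  let R' : Type u := S'.presheaf.stalk s
  let t : Spec (CommRingCat.of R') ⟶ S' := S'.fromSpecStalk s
  have htpre : IsPreimmersion t := inferInstanceAs (IsPreimmersion (S'.fromSpecStalk s))
  have ht : t (cpt R') = s := Scheme.fromSpecStalk_closedPoint
  let b' : Spec (CommRingCat.of R') ⟶ Spec (CommRingCat.of R) := t ≫ b
  let p' := pullback.snd p b'
  let q := pullback.snd p b
  let c : pullback p b' ⟶ pullback p b := pullback.lift (pullback.fst p b') (p' ≫ t) (by
    rw [Category.assoc]
    exact pullback.condition)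
  have hc1 : c ≫ pullback.fst p b = pullback.fst p b' := pullback.lift_fst _ _ _
  have hc2 : c ≫ q = p' ≫ t := pullback.lift_snd _ _ _
  have hc : IsPullback c p' q t := by
    refine IsPullback.of_right (h₁₂ := pullback.fst p b) (v₁₃ := p) (h₂₂ := b) ?_ hc2
      (IsPullback.of_hasPullback _ _)
    rw [hc1]
    exact IsPullback.of_hasPullback _ _
  have hint : IsIntegral (pullback p b') := isIntegral_total p'
  obtain ⟨x₀, hx₀⟩ : ∃ x₀, c x₀ = y := by
    obtain ⟨z, hz, -⟩ := Scheme.Pullback.exists_preimage_pullback (f := q) (g := t) y (cpt R') (by rw [ht]; exact hy)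
    refine ⟨hc.isoPullback.inv z, ?_⟩
    rw [← Scheme.Hom.comp_apply, hc.isoPullback_inv_fst]
    exact hz
  have hconst : ∀ x, ψ.finrank (c x) = 1 := by
    intro x
    have h1 : IsLocallyConstant (fun x : ↥(pullback p b' : Scheme.{u}) => ψ.finrank (c x)) :=
      ψ.isLocallyConstant_finrank.comp_continuous c.continuous
    rw [← hy1, ← hx₀]
    exact h1.apply_eq_of_preconnectedSpace x x₀
  have hisoψ : IsIso (pullback.snd ψ c) := by
    rw [Scheme.Hom.isIso_iff_finrank_eq]
    ext x
    rw [Scheme.Hom.finrank_pullback_snd, hconst]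
    rfl
  let τ : pullback p b' ⟶ E := inv (pullback.snd ψ c) ≫ pullback.fst ψ c
  have hτ : τ ≫ ψ = c := by
    rw [Category.assoc, pullback.condition, IsIso.inv_hom_id_assoc]
  have hτe : τ ≫ e = pullback.fst p b' := by
    rw [← hψ1, ← Category.assoc, hτ, hc1]
  -- the residue fields
  obtain ⟨m₀, hm₀⟩ := exists_fac_residue (K := (Spec (CommRingCat.of R')).residueField (cpt R'))
    ((Spec (CommRingCat.of R')).fromSpecResidueField (cpt R') ≫ b') (s := cpt R) (by
      rw [Scheme.Hom.comp_apply, Scheme.Hom.comp_apply]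
      have h1 : (Spec (CommRingCat.of R')).fromSpecResidueField (cpt R')
        (closedPoint ((Spec (CommRingCat.of R')).residueField (cpt R'))) = cpt R' :=
        Scheme.fromSpecResidueField_apply _ _
      rw [h1, ht, hs])
  obtain ⟨r, hr⟩ := exists_fac_residue (K := (Spec (CommRingCat.of R')).residueField (cpt R'))
    ((Spec (CommRingCat.of R')).fromSpecResidueField (cpt R') ≫ t) (s := s) (by
      rw [Scheme.Hom.comp_apply]
      have h1 : (Spec (CommRingCat.of R')).fromSpecResidueField (cpt R')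
        (closedPoint ((Spec (CommRingCat.of R')).residueField (cpt R'))) = cpt R' :=
        Scheme.fromSpecResidueField_apply _ _
      rw [h1, ht])
  have hbg : b (t (gpt R')) = gpt R := by
    apply eq_gpt_of_ne
    intro h
    have hD := b.isDiscrete_preimage_singleton (cpt R)
    have h1 : t (gpt R') ⤳ t (cpt R') := (gpt_specializes R' (cpt R')).map t.continuous
    have h2 : t (gpt R') = t (cpt R') := hD.eq_of_specializes h1 h (by
      change b (t (cpt R')) = cpt R
      rw [ht, hs])
    exact gpt_ne_cpt R' (t.isEmbedding.injective h2)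
  obtain ⟨m₁, hm₁, hm₂, hm₃⟩ := exists_resMap b hbg
  have hti : IsIso (t.residueFieldMap (gpt R')) := isIso_residueFieldMap t _
  refine ⟨R', inferInstance, hd, hdvr, b', τ, m₀, Spec.map (t.residueFieldMap (gpt R')) ≫ m₁, hm₀, ?_,
    inferInstance, inferInstance, hτe, ?_⟩
  · rw [Category.assoc, hm₁, ← Category.assoc, Scheme.Hom.SpecMap_residueFieldMap_fromSpecResidueField,
      Category.assoc]
  · intro c₀ hc₀
    have hmono : Mono (p.fiberι (cpt R)) :=
      inferInstanceAs (Mono (pullback.fst p ((Spec (CommRingCat.of R)).fromSpecResidueField (cpt R))))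
    have hpc : p'.fiberι (cpt R') ≫ p' = p'.fiberToSpecResidueField (cpt R') ≫
        (Spec (CommRingCat.of R')).fromSpecResidueField (cpt R') := pullback.condition
    have hkey : (p'.fiberι (cpt R') ≫ τ) ≫ (ψ ≫ q) =
        (p'.fiberToSpecResidueField (cpt R') ≫ r) ≫ S'.fromSpecResidueField s :=
      calc (p'.fiberι (cpt R') ≫ τ) ≫ (ψ ≫ q) = p'.fiberι (cpt R') ≫ (τ ≫ ψ) ≫ q := by
            simp only [Category.assoc]
        _ = (p'.fiberι (cpt R') ≫ p') ≫ t := by rw [hτ, hc2, Category.assoc]
        _ = p'.fiberToSpecResidueField (cpt R') ≫ r ≫ S'.fromSpecResidueField s := by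
          rw [hpc, Category.assoc]
          exact congrArg (fun z => p'.fiberToSpecResidueField (cpt R') ≫ z) hr.symm
        _ = _ := (Category.assoc _ _ _).symm
    let l : p'.fiber (cpt R') ⟶ (ψ ≫ q).fiber s := pullback.lift (p'.fiberι (cpt R') ≫ τ)
      (p'.fiberToSpecResidueField (cpt R') ≫ r) hkey
    have hl : l ≫ (ψ ≫ q).fiberι s = p'.fiberι (cpt R') ≫ τ := pullback.lift_fst _ _ _
    have hl' : p'.fiberι (cpt R') ≫ τ = (l ≫ inv σ₁) ≫ σ := by
      rw [← hl, ← hσ₁, Category.assoc, IsIso.inv_hom_id_assoc]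
    have h1 : l ≫ inv σ₁ = c₀ := by
      rw [← cancel_mono (p.fiberι (cpt R)), hc₀, ← hτe, ← Category.assoc]
      change _ = (p'.fiberι (cpt R') ≫ τ) ≫ e
      rw [hl', Category.assoc _ σ e, hσ]
    change p'.fiberι (cpt R') ≫ τ = _
    rw [hl', h1]

end K843.SteinExt
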