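import Groth.Agent.CanPar.K843.FibMap
import Groth.Agent.CanPar.K843.LargestLe
import Groth.Agent.CanPar.K843.SteinExt
import Groth.Agent.CanPar.K843.AboveEt

/-!
# The closed fibre of the canonical parabolic subgroup when the degrees agree
-/

set_option autoImplicit false
universe u

open CategoryTheory CategoryTheory.Limits AlgebraicGeometry MonoidalCategory CartesianMonoidalCategory
  MonObj GrpObj

namespace K843.Step3

open Groth.Agent Groth.Agent.Sga3B Groth.Agent.Sga3B.MT Groth.Agent.RedSub.H647.SubPt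
  Groth.Agent.RedSub.H647.SubF.SubClass Groth.Agent.RedSub.H660.Classes K795.ParExt K204.ParSec K204.ParSec.ParData
  Groth.Agent.RedSub.H660.Restrict K204.Fin Groth.Agent.CanPar.K795.Iface Groth.Agent.Sga3B.BcPts
  Groth.Agent.RedSub.H647.SubF K843.CurveFib K795.GenFib K843.Compare K843.FibMap K843.DegBase K843.DegField
  K843.Above K843.LargestLe IsLocalRing

section above

variable {X : Scheme.{u}} {G : Over X} [GrpObj G] (D : ParData G)

/-- The scheme of the parabolic subgroups above a given section. -/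
theorem exists_above_sec (s : X ⟶ D.M.left) (hs : s ≫ D.M.hom = 𝟙 X) :
    ∃ (E : Scheme.{u}) (e : E ⟶ X) (mu : E ⟶ D.M.left), IsFinite e ∧ Etale e ∧ mu ≫ D.M.hom = e ∧
      D.Le (e ≫ s) mu ∧ ∀ (T : Scheme.{u}) (ψ : T ⟶ D.M.left), D.Le ((ψ ≫ D.M.hom) ≫ s) ψ →
        ∃ σ : T ⟶ E, σ ≫ e = ψ ≫ D.M.hom ∧ σ ≫ mu = ψ := by
  obtain ⟨P, _, i, hi, hPi, -⟩ := exists_par_of_sec D s hs
  obtain ⟨E, HE, _, hE, hrep, hfin, het⟩ := exists_above D.red i hi
  obtain ⟨hE1, hE2⟩ := (parAbove_Q D.red i E.hom hE).1 hrep.1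
  obtain ⟨mu, ⟨hmu1, hmu2⟩, -⟩ := existsUnique_hom_of_par D.rep E.hom hE hE1
  refine ⟨E.left, E.hom, mu, hfin, het, hmu1, ?_, ?_⟩
  · intro Z y g hg
    have hw : g ≫ G.hom = y ≫ E.hom := by
      rw [← hg.w, Category.assoc, Category.assoc, hs, Category.comp_id]
    rw [← hmu2]
    refine hE2 Z y g ?_ hw.symm
    rw [hPi, ← Category.assoc, hw, Category.assoc]
    exact hg
  · intro T ψ hψ
    have hpar := D.isParabolic_bcSub ψ
    have hQ : (parAbove D.red i).Q (ψ ≫ D.M.hom) (bcSub ψ D.h) := by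
      refine (parAbove_Q D.red i _ _).2 ⟨hpar, fun Z y g hg hy => ?_⟩
      rw [pt_bcSub]
      refine hψ Z y g ?_
      rw [hPi, ← Category.assoc, ← hy] at hg
      simpa only [Category.assoc] using hg
    obtain ⟨σ, ⟨hσ1, hσ2⟩, -⟩ := hrep.2 T (ψ ≫ D.M.hom) _ (bcSub ψ D.h) hQ
    refine ⟨σ, hσ1, ?_⟩
    rw [samePoints_iff] at hσ2
    refine Le.antisymm (D := D) (by rw [Category.assoc, hmu1, hσ1]) ?_ ?_
    · intro Z y g hg
      rw [← Category.assoc, ← hmu2, ← hσ2, pt_bcSub] at hg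
      exact hg
    · intro Z y g hg
      rw [← Category.assoc, ← hmu2, ← hσ2, pt_bcSub]
      exact hg

end above

section main

variable {R : Type u} [CommRing R] [IsDomain R] [IsDiscreteValuationRing R]
  {X : Scheme.{u}} (p : X ⟶ Spec (CommRingCat.of R)) [Smooth p] [IsProper p] [GeometricallyConnected p]
  (hdim : ∀ s : Spec (CommRingCat.of R), topologicalKrullDim (p.fiber s) = 1)
  {G : Over X} [GrpObj G] (D : ParData G) (hC : CoreSplit.{u})

/-- the degree of a parabolic subgroup on a fibre -/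
noncomputable abbrev dgM {R : Type u} [CommRing R] {X' : Scheme.{u}} (p : X' ⟶ Spec (CommRingCat.of R))
    (s : Spec (CommRingCat.of R)) [IrreducibleSpace (p.fiber s)] (ψ : p.fiber s ⟶ D.M.left) : ℤ :=
  dgF p s ((Scheme.Modules.pullback ψ).obj (LieS.omega D.H))

theorem isFinLocFree_H : FlatMod.IsFinLocFree (LieS.omega D.H) := by
  have := D.quasiSeparated_H
  have := D.par.2.2.1
  exact K795.OmegaGrp.isFinLocFree_omega D.H

include hdim hC in
theorem eq_of_deg_eq [IsIntegral (p.fiber (cpt R))] [IsIntegral (p.fiber (gpt R))] [IsIntegral X]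
    (s : X ⟶ D.M.left) (hs : s ≫ D.M.hom = 𝟙 X)
    (ψ₀ : p.fiber (cpt R) ⟶ D.M.left) (hψ₀ : ψ₀ ≫ D.M.hom = p.fiberι (cpt R))
    (hle : D.Le (p.fiberι (cpt R) ≫ s) ψ₀)
    (hdeg : dgM D p (cpt R) (p.fiberι (cpt R) ≫ s) = dgM D p (cpt R) ψ₀)
    {P : Over (p.fiber (gpt R))} [GrpObj P] {i : P ⟶ Red.bc (p.fiberι (gpt R)) G} (hP : Red.IsParabolic i) {n : ℕ}
    (hn : FlatMod.IsFinLocFreeOfRank n (LieS.omega P))
    (hmax : ∀ (Q : Over (p.fiber (gpt R))) [GrpObj Q] (j : Q ⟶ Red.bc (p.fiberι (gpt R)) G), Red.IsParabolic j →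
        ∀ m : ℕ, FlatMod.IsFinLocFreeOfRank m (LieS.omega Q) →
          -@Curv2.deg ((Spec (CommRingCat.of R)).residueField (gpt R)) _ (p.fiber (gpt R))
            ⟨p.fiberToSpecResidueField _⟩ (LieS.omega Q) m ≤
          -@Curv2.deg ((Spec (CommRingCat.of R)).residueField (gpt R)) _ (p.fiber (gpt R))
            ⟨p.fiberToSpecResidueField _⟩ (LieS.omega P) n ∧
          (@Curv2.deg ((Spec (CommRingCat.of R)).residueField (gpt R)) _ (p.fiber (gpt R))
            ⟨p.fiberToSpecResidueField _⟩ (LieS.omega Q) m =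
           @Curv2.deg ((Spec (CommRingCat.of R)).residueField (gpt R)) _ (p.fiber (gpt R))
            ⟨p.fiberToSpecResidueField _⟩ (LieS.omega P) n → ∃ f : Q ⟶ P, f ≫ i = j))
    (hOf : D.Of i (p.fiberι (gpt R) ≫ s)) :
    p.fiberι (cpt R) ≫ s = ψ₀ := by
  obtain ⟨E, e, mu, hfin, het, hmu1, hmu2, hE⟩ := exists_above_sec D s hs
  obtain ⟨σ, hσ1, hσ2⟩ := hE _ ψ₀ (by rw [hψ₀]; exact hle)
  rw [hψ₀] at hσ1
  obtain ⟨R', _, _, _, b', τ, m₀, m, hm₀, hm, hmet, hmfin, hτe, hτσ⟩ := SteinExt.exists_ext p e σ hσ1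
  let p' := pullback.snd p b'
  let pr := pullback.fst p b'
  obtain ⟨c₀, hc₀, hpb₀⟩ := exists_fibMap p b' m₀ hm₀
  obtain ⟨c, hc, hpb⟩ := exists_fibMap p b' m hm
  have hi1 : IsIntegral (p'.fiber (cpt R')) := isIntegral_fiber p' _
  have hi2 : IsIntegral (p'.fiber (gpt R')) := isIntegral_fiber p' _
  have hi3 : IsIntegral (pullback p b') := isIntegral_total p'
  let ψ : pullback p b' ⟶ D.M.left := τ ≫ mu
  have hψ : ψ ≫ D.M.hom = pr := by rw [Category.assoc, hmu1, hτe]
  have hψle : D.Le (pr ≫ s) ψ := by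
    have h1 := hmu2.comp τ
    rw [← Category.assoc, hτe] at h1
    exact h1
  have hcl : p'.fiberι (cpt R') ≫ ψ = c₀ ≫ ψ₀ := by
    have h1 := hτσ c₀ hc₀
    rw [← hσ2, ← Category.assoc, ← Category.assoc, h1]
  have hcl2 : p'.fiberι (cpt R') ≫ pr ≫ s = c₀ ≫ p.fiberι (cpt R) ≫ s := by
    rw [← Category.assoc, ← Category.assoc]
    exact congrArg (· ≫ s) hc₀.symm
  have hgl2 : p'.fiberι (gpt R') ≫ pr ≫ s = c ≫ p.fiberι (gpt R) ≫ s := by
    rw [← Category.assoc, ← Category.assoc]
    exact congrArg (· ≫ s) hc.symm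
  have hN := isFinLocFree_H D
  -- degrees on the closed fibre of `p'`
  have d1 : dgM D p' (cpt R') (p'.fiberι (cpt R') ≫ ψ) = dgM D p (cpt R) ψ₀ := by
    rw [dgM, hcl]
    exact dgF_base p p' hpb₀ ψ₀ hN
  have d2 : dgM D p' (cpt R') (p'.fiberι (cpt R') ≫ pr ≫ s) = dgM D p (cpt R) (p.fiberι (cpt R) ≫ s) := by
    rw [dgM, hcl2]
    exact dgF_base p p' hpb₀ _ hN
  -- degrees on the generic fibre of `p'`
  have d3 : dgM D p' (gpt R') (p'.fiberι (gpt R') ≫ ψ) = dgM D p' (gpt R') (p'.fiberι (gpt R') ≫ pr ≫ s) := by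
    have h1 := dgF_map_const p' ψ hN
    have h2 := dgF_map_const p' (pr ≫ s) hN
    exact h1.symm.trans ((d1.trans (hdeg.symm.trans d2.symm)).trans h2)
  -- over the field `K`
  let K : Type u := (Spec (CommRingCat.of R)).residueField (gpt R)
  let K' : Type u := (Spec (CommRingCat.of R')).residueField (gpt R')
  have hmm : Spec.map (CommRingCat.ofHom (Spec.preimage m).hom) = m := Spec.map_preimage m
  letI o1 : (p.fiber (gpt R)).Over (Spec (CommRingCat.of ((Spec (CommRingCat.of R)).residueField (gpt R)))) :=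
    ⟨p.fiberToSpecResidueField _⟩
  letI o2 : (p'.fiber (gpt R')).Over (Spec (CommRingCat.of ((Spec (CommRingCat.of R)).residueField (gpt R)))) :=
    ⟨p'.fiberToSpecResidueField _ ≫ m⟩
  have hprp : IsProper ((p.fiber (gpt R)) ↘ (Spec (CommRingCat.of ((Spec (CommRingCat.of R)).residueField (gpt R))))) :=
    isProper_fiber p _
  have hprp'0 : IsProper (p'.fiberToSpecResidueField (gpt R')) := isProper_fiber p' _
  have hprp' : IsProper ((p'.fiber (gpt R')) ↘
      (Spec (CommRingCat.of ((Spec (CommRingCat.of R)).residueField (gpt R))))) := by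
    change IsProper (p'.fiberToSpecResidueField (gpt R') ≫ m)
    infer_instance
  have hfc : IsFinite c := MorphismProperty.of_isPullback hpb.flip hmfin
  have hec : Etale c := MorphismProperty.of_isPullback hpb.flip hmet
  have hprp0 : IsProper (p.fiberToSpecResidueField (gpt R)) := isProper_fiber p _
  have hlft : LocallyOfFiniteType (p.fiberToSpecResidueField (gpt R)) := inferInstance
  have hdimY : topologicalKrullDim (p'.fiber (gpt R')) = 1 := by
    rw [← hdim (gpt R)]
    exact Sga3B.DimFib.topologicalKrullDim_baseChange_eq (Field.toIsField _) (Field.toIsField _)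
      (p.fiberToSpecResidueField (gpt R)) m c (p'.fiberToSpecResidueField (gpt R')) hpb
  have d4 : D.dg ((Spec (CommRingCat.of R)).residueField (gpt R)) (p'.fiberι (gpt R') ≫ ψ) =
      D.dg ((Spec (CommRingCat.of R)).residueField (gpt R)) (c ≫ p.fiberι (gpt R) ≫ s) := by
    rw [← hgl2]
    have key : ∀ F : (p'.fiber (gpt R')).Modules,
        K795.CurveBound.dg ((Spec (CommRingCat.of R)).residueField (gpt R)) F =
          (letI := (Spec.preimage m).hom.toAlgebra;
            (Module.finrank ((Spec (CommRingCat.of R)).residueField (gpt R))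
              ((Spec (CommRingCat.of R')).residueField (gpt R')) : ℤ)) * dgF p' (gpt R') F := by
      intro F
      have h1 := DegField.dg_eq _ _ (Spec.preimage m).hom (p'.fiber (gpt R')) (p'.fiberToSpecResidueField (gpt R')) F
      rw [← h1]
      have h2 : ∀ (m₁ m₂ : Spec ((Spec (CommRingCat.of R')).residueField (gpt R')) ⟶
          Spec ((Spec (CommRingCat.of R)).residueField (gpt R))), m₁ = m₂ →
          @K795.CurveBound.dg ((Spec (CommRingCat.of R)).residueField (gpt R)) _ _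
            ⟨p'.fiberToSpecResidueField _ ≫ m₁⟩ _ F =
          @K795.CurveBound.dg ((Spec (CommRingCat.of R)).residueField (gpt R)) _ _
            ⟨p'.fiberToSpecResidueField _ ≫ m₂⟩ _ F := by
        rintro _ _ rfl
        rfl
      exact h2 m _ hmm.symm
    rw [ParData.dg, ParData.dg, key, key]
    congr 1
  have hle' : D.Le (p'.fiberι (gpt R') ≫ ψ) (c ≫ p.fiberι (gpt R) ≫ s) := by
    refine largest_le D (p.fiberι (gpt R)) hC ((Spec (CommRingCat.of R)).residueField (gpt R))
      (fun y => (valuationRing_stalk_fiber p _ (hdim _) y).2) (hdim _)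
      (fun y => (valuationRing_stalk_fiber p' _ hdimY y).2) hdimY c hpb.w ⟨⊤, ⟨genericPoint _, trivial⟩, inferInstance⟩
      hP hn hmax (by rw [Category.assoc, hs, Category.comp_id]) hOf _ ?_ d4
    rw [Category.assoc, hψ]
    exact hc.symm
  have hgen : p'.fiberι (gpt R') ≫ ψ = p'.fiberι (gpt R') ≫ pr ≫ s := by
    refine Le.antisymm (D := D) ?_ ?_ (hψle.comp _)
    · rw [Category.assoc, hψ, Category.assoc, Category.assoc, hs, Category.comp_id]
    · rw [hgl2]
      exact hle'
  have hoi := isOpenImmersion_fiberι R' p'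
  have hdom : IsDominant (p'.fiberι (gpt R')) :=
    ⟨(hoi.isOpen_range).dense ⟨_, ⟨genericPoint _, rfl⟩⟩⟩
  have htot : ψ = pr ≫ s := by
    refine ext_of_isDominant_of_isSeparated D.M.hom ?_ (p'.fiberι (gpt R')) hgen
    rw [hψ, Category.assoc, hs, Category.comp_id]
  have hs0 : Surjective m₀ := surjective_of_field (Field.toIsField _) (Field.toIsField _) m₀
  have hsc : Surjective c₀ := MorphismProperty.of_isPullback (P := @Surjective) hpb₀.flip hs0
  refine ext_of_isDominant_of_isSeparated D.M.hom ?_ c₀ ?_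
  · rw [hψ₀, Category.assoc, hs, Category.comp_id]
  · rw [← hcl, ← hcl2, htot]

end main

end K843.Step3
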