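import Groth.Agent.CanPar.K843.Step2
import Groth.Agent.CanPar.K843.Step3
import Groth.Agent.CanPar.K204.Fin

/-!
# Extension of the canonical parabolic subgroup over a family of curves with constant degree of instability
-/

set_option autoImplicit false
universe u

open CategoryTheory CategoryTheory.Limits MonoidalCategory CartesianMonoidalCategory MonObj GrpObj
open AlgebraicGeometry TopologicalSpace IsLocalRing

namespace K843.Main69

open Groth.Agent K795.OmQuot K795.OmegaGrp K795.GenZero K795.ParExt Groth.Agent.RedSub.H647.SubPt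
  Groth.Agent.VarietyA.DegRank K795.GenFib K795.CurveBound K843.CurveFib K843.FlatRank K843.KillChain
  K843.Compare K843.Main67 K204.ParSec K204.ParSec.ParData K204.Fin Groth.Agent.CanPar.K795.Iface

variable {R : Type u} [CommRing R] [IsDomain R] [IsDiscreteValuationRing R]
  {X : Scheme.{u}} (p : X ⟶ Spec (CommRingCat.of R)) [Smooth p] [IsProper p] [GeometricallyConnected p]

/-- a subgroup of the fibre is the restriction of a subgroup of the total space -/
theorem exists_fibre_iso {G : Over X} [GrpObj G] (D : ParData G) {P : Over X} [GrpObj P] {i : P ⟶ G}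
    (hi : Red.IsParabolic i) (s : X ⟶ D.M.left)
    (hPi : ∀ (Z : Scheme.{u}) (g : Z ⟶ G.left), PtG i g ↔ Pt D.h (g ≫ G.hom ≫ s) g) (hs : s ≫ D.M.hom = 𝟙 X)
    {T : Scheme.{u}} (f : T ⟶ X) {Q : Over T} [GrpObj Q] {j : Q ⟶ Red.bc f G} (hj : Red.IsParabolic j)
    (hQ : D.Of j (f ≫ s)) :
    ∃ e : Red.bc f P ≅ Q, e.hom ≫ j = (Over.pullback f).map i := by
  have hm : Mono j := by
    have := hj.2.1
    exact Over.mono_of_mono_left _
  have hm2 : Mono ((Over.pullback f).map i) := by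
    have := hi.2.1
    have : Mono i := Over.mono_of_mono_left _
    infer_instance
  refine exists_iso_of_pt _ _ ?_
  intro Z y g
  rw [pt_pullback, hPi, hQ Z y g]
  constructor
  · rintro ⟨h1, h2⟩
    rw [← Category.assoc, h2, Category.assoc]
    exact h1
  · intro h1
    have h2 := h1.w
    rw [Category.assoc, Category.assoc, hs, Category.comp_id] at h2
    refine ⟨?_, h2⟩
    rw [← Category.assoc, ← h2, Category.assoc]
    exact h1

variable (hdim : ∀ s : Spec (CommRingCat.of R), topologicalKrullDim (p.fiber s) = 1)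
  {G : Over X} [GrpObj G] (hG : Red.IsReductive G)

include hdim hG in
theorem main (hC : CoreSplit.{u})
    (Pη : Over (p.fiber (gpt R))) [GrpObj Pη] (iη : Pη ⟶ Red.bc (p.fiberι (gpt R)) G)
    (hPη : Red.IsParabolic iη) (nη : ℕ) (hnη : FlatMod.IsFinLocFreeOfRank nη (LieS.omega Pη))
    (hmaxη : ∀ (Q : Over (p.fiber (gpt R))) [GrpObj Q] (j : Q ⟶ Red.bc (p.fiberι (gpt R)) G), Red.IsParabolic j →
        ∀ m : ℕ, FlatMod.IsFinLocFreeOfRank m (LieS.omega Q) →
          -@Curv2.deg ((Spec (CommRingCat.of R)).residueField (gpt R)) _ (p.fiber (gpt R))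
            ⟨p.fiberToSpecResidueField _⟩ (LieS.omega Q) m ≤
          -@Curv2.deg ((Spec (CommRingCat.of R)).residueField (gpt R)) _ (p.fiber (gpt R))
            ⟨p.fiberToSpecResidueField _⟩ (LieS.omega Pη) nη ∧
          (@Curv2.deg ((Spec (CommRingCat.of R)).residueField (gpt R)) _ (p.fiber (gpt R))
            ⟨p.fiberToSpecResidueField _⟩ (LieS.omega Q) m =
           @Curv2.deg ((Spec (CommRingCat.of R)).residueField (gpt R)) _ (p.fiber (gpt R))
            ⟨p.fiberToSpecResidueField _⟩ (LieS.omega Pη) nη → ∃ f : Q ⟶ Pη, f ≫ iη = j))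
    (P₀ : Over (p.fiber (cpt R))) [GrpObj P₀] (i₀ : P₀ ⟶ Red.bc (p.fiberι (cpt R)) G)
    (hP₀ : Red.IsParabolic i₀) (n₀ : ℕ) (hn₀ : FlatMod.IsFinLocFreeOfRank n₀ (LieS.omega P₀))
    (hmax₀ : ∀ (Q : Over (p.fiber (cpt R))) [GrpObj Q] (j : Q ⟶ Red.bc (p.fiberι (cpt R)) G), Red.IsParabolic j →
        ∀ m : ℕ, FlatMod.IsFinLocFreeOfRank m (LieS.omega Q) →
          -@Curv2.deg ((Spec (CommRingCat.of R)).residueField (cpt R)) _ (p.fiber (cpt R))
            ⟨p.fiberToSpecResidueField _⟩ (LieS.omega Q) m ≤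
          -@Curv2.deg ((Spec (CommRingCat.of R)).residueField (cpt R)) _ (p.fiber (cpt R))
            ⟨p.fiberToSpecResidueField _⟩ (LieS.omega P₀) n₀ ∧
          (@Curv2.deg ((Spec (CommRingCat.of R)).residueField (cpt R)) _ (p.fiber (cpt R))
            ⟨p.fiberToSpecResidueField _⟩ (LieS.omega Q) m =
           @Curv2.deg ((Spec (CommRingCat.of R)).residueField (cpt R)) _ (p.fiber (cpt R))
            ⟨p.fiberToSpecResidueField _⟩ (LieS.omega P₀) n₀ → ∃ f : Q ⟶ P₀, f ≫ i₀ = j))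
    (heq : @Curv2.deg ((Spec (CommRingCat.of R)).residueField (gpt R)) _ (p.fiber (gpt R))
        ⟨p.fiberToSpecResidueField _⟩ (LieS.omega Pη) nη =
      @Curv2.deg ((Spec (CommRingCat.of R)).residueField (cpt R)) _ (p.fiber (cpt R))
        ⟨p.fiberToSpecResidueField _⟩ (LieS.omega P₀) n₀) :
    ∃ (P : Over X) (_ : GrpObj P) (i : P ⟶ G), Red.IsParabolic i ∧
      (∃ e : Red.bc (p.fiberι (gpt R)) P ≅ Pη, e.hom ≫ iη = (Over.pullback (p.fiberι (gpt R))).map i) ∧
      (∃ e : Red.bc (p.fiberι (cpt R)) P ≅ P₀, e.hom ≫ i₀ = (Over.pullback (p.fiberι (cpt R))).map i) := by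
  have hX : IsIntegral X := isIntegral_total p
  have hV : IsIntegral (p.fiber (gpt R)) := isIntegral_fiber p _
  have hY : IsIntegral (p.fiber (cpt R)) := isIntegral_fiber p _
  have hqs := quasiSeparated_of_reductive hG
  obtain ⟨D⟩ := nonempty_parData hG
  have := hPη.1
  have hq1 := quasiSeparated_of_parabolic hG hPη
  have hq2 := quasiSeparated_of_parabolic hG hP₀
  obtain ⟨P', _, i', _, _, φ, φ₀, a, φA, W, ρ, e, τ, hi', fQ, fi, hφ, hφ₀, ha, hA, h1, h2, hrk, hρ, hW, hfl, he,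
    hτ, hτe, hle, hiso⟩ := exists_spec_par p hdim hG D.rep Pη iη hPη
  have := hi'.2.2.1
  have hn' : FlatMod.IsFinLocFreeOfRank (rk (LieS.omega P')) (LieS.omega P') :=
    isFinLocFreeOfRank_rk (isFinLocFree_omega P')
  have e1 := deg_eq_dgF p (gpt R) hnη
  have e2 := deg_eq_dgF p (cpt R) hn'
  have e3 := deg_eq_dgF p (cpt R) hn₀
  have hm := hmax₀ P' i' hi' _ hn'
  have hle1 : dgF p (cpt R) (cn P') = dgF p (gpt R) (cn Pη) :=
    le_antisymm hle ((e1.symm.trans heq).le.trans ((neg_le_neg_iff.1 hm.1).trans e2.le))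
  have hτi : IsIso τ := hiso hle1
  obtain ⟨s, hs, hsη, hs₀⟩ := Step2.exists_total p hG D.rep hPη hi' fQ hφ hφ₀ ha hA h1 h2 hrk hW he (τ := τ)
  have hdeg' := e2.trans (hle1.trans (e1.symm.trans heq))
  obtain ⟨f, hf⟩ := hm.2 hdeg'
  obtain ⟨ψ₀, ⟨hψ₀, fψ₀⟩, -⟩ := existsUnique_hom_of_par D.rep _ i₀ hP₀
  have key : p.fiberι (cpt R) ≫ s = ψ₀ := by
    refine Step3.eq_of_deg_eq p hdim D hC s hs ψ₀ hψ₀ ?_ ?_ hPη hnη hmaxη ?_
    · rw [hs₀]
      intro Z y g hg
      rw [← fψ₀]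
      exact pt_of_fac f hf ((fi Z y g).2 hg)
    · rw [hs₀]
      letI : (p.fiber (cpt R)).Over (Spec (CommRingCat.of ((Spec (CommRingCat.of R)).residueField (cpt R)))) :=
        ⟨p.fiberToSpecResidueField _⟩
      have e4 := deg_eq ((Spec (CommRingCat.of R)).residueField (cpt R)) hi' hφ₀ fi hn'
      have e5 := deg_eq ((Spec (CommRingCat.of R)).residueField (cpt R)) hP₀ hψ₀ fψ₀ hn₀
      exact e4.symm.trans (hdeg'.trans e5)
    · rw [hsη]
      exact fQ
  obtain ⟨P, _, i, hi, hPi, -⟩ := exists_par_of_sec D s hs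
  refine ⟨P, inferInstance, i, hi, exists_fibre_iso D hi s hPi hs _ hPη ?_, exists_fibre_iso D hi s hPi hs _ hP₀ ?_⟩
  · rw [hsη]
    exact fQ
  · rw [key]
    exact fψ₀

end K843.Main69
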