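import Groth.Agent.CanPar.K843.EtSec
import Groth.Agent.CanPar.K843.CurveFib
import Groth.Agent.CanPar.K795.GenFib
import Groth.Agent.S3701
import Groth.Agent.S0388
import Groth.Agent.Etcore.SmoothRed
import Groth.Agent.Sga7.H756.GenPt

/-!
# Sections of finite étale coverings over the closed fibre of a curve over a discrete valuation ring

`p : X ⟶ Spec R` smooth, proper, with geometrically connected fibres, `e : E ⟶ X` finite étale, `σ` a section of `e`
over the closed fibre.  Then `σ` extends to a section of `e` over `X ×_R R'`, `R'` a discrete valuation ring which is a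
localisation of a finite étale `R`-algebra.
-/

set_option autoImplicit false
universe u

open CategoryTheory CategoryTheory.Limits AlgebraicGeometry

namespace K843.SteinSec

open Groth.Agent K843.CurveFib K795.GenFib K843.EtSec IsLocalRing

variable {R : Type u} [CommRing R] [IsDomain R] [IsDiscreteValuationRing R]
  {X : Scheme.{u}} (p : X ⟶ Spec (CommRingCat.of R)) [Smooth p] [IsProper p]
  {E : Scheme.{u}} (e : E ⟶ X) [IsFinite e] [Etale e]

/-- The Stein factorisation. -/
theorem stein : ∃ (S' : Scheme.{u}) (b : S' ⟶ Spec (CommRingCat.of R)) (a : E ⟶ S'), a ≫ b = e ≫ p ∧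
    IsFinite b ∧ Etale b ∧ GeometricallyConnected a := by
  obtain ⟨h1, h2⟩ := S3701.result (e ≫ p) (fun Ω _ _ σ => by
    have : Smooth (pullback.snd (e ≫ p) σ) := inferInstance
    exact Etcore.SmoothRed.isReduced_of_smooth (pullback.snd (e ≫ p) σ))
  exact ⟨_, (e ≫ p).fromNormalization, (e ≫ p).toNormalization,
    Scheme.Hom.toNormalization_fromNormalization _, h1, h2, (S0388.result (e ≫ p)).1⟩

omit [IsDomain R] [IsDiscreteValuationRing R] in
/-- A morphism from an integral scheme to a closed fibre of a finite morphism factors through the spectrum of a residue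
field. -/
theorem exists_point [IsLocalRing R] {S' : Scheme.{u}} (b : S' ⟶ Spec (CommRingCat.of R)) [IsFinite b]
    {Z : Scheme.{u}} [IsIntegral Z] (w : Z ⟶ S') (hw : ∀ z, b (w z) = cpt R) :
    ∃ (s : S') (w₁ : Z ⟶ Spec (S'.residueField s)), b s = cpt R ∧ w₁ ≫ S'.fromSpecResidueField s = w := by
  have hD := b.isDiscrete_preimage_singleton (cpt R)
  have hc : IsClosed ({cpt R} : Set (Spec (CommRingCat.of R))) := isClosed_singleton_closedPoint R
  let s : S' := w (genericPoint Z)
  have hs : b s = cpt R := hw _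
  have hcl : IsClosed ({s} : Set S') := by
    rw [← closure_subset_iff_isClosed]
    intro x hx
    have h1 : s ⤳ x := specializes_iff_mem_closure.2 hx
    have h2 : b s ⤳ b x := h1.map b.continuous
    have h3 : b x = cpt R := by
      rw [hs] at h2
      exact h2.mem_closed hc rfl
    exact (hD.eq_of_specializes h1 hs h3).symm
  have hws : ∀ z, w z = s := by
    intro z
    have h1 : s ⤳ w z := (genericPoint_specializes z).map w.continuous
    exact h1.mem_closed hcl rfl
  have hci : IsClosedImmersion (S'.fromSpecResidueField s) := by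
    refine IsClosedImmersion.of_isPreimmersion _ ?_
    rw [Scheme.range_fromSpecResidueField]
    exact hcl
  have hsurj : Surjective (pullback.fst w (S'.fromSpecResidueField s)) := by
    refine ⟨fun z => ?_⟩
    have h1 : w z ∈ Set.range (S'.fromSpecResidueField s) := by
      rw [Scheme.range_fromSpecResidueField]
      exact hws z
    obtain ⟨t, ht⟩ := h1
    obtain ⟨y, hy, -⟩ := Scheme.Pullback.exists_preimage_pullback (f := w) (g := S'.fromSpecResidueField s) z t ht.symm
    exact ⟨y, hy⟩
  have hiso : IsIso (pullback.fst w (S'.fromSpecResidueField s)) :=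
    isIso_of_isClosedImmersion_of_surjective _
  refine ⟨s, inv (pullback.fst w (S'.fromSpecResidueField s)) ≫ pullback.snd _ _, hs, ?_⟩
  rw [Category.assoc, ← pullback.condition, IsIso.inv_hom_id_assoc]

/-- The extension of residue fields of an étale morphism. -/
theorem exists_resMap {Y S : Scheme.{u}} (b : Y ⟶ S) [FormallyUnramified b] [LocallyOfFiniteType b] {y : Y} {t : S}
    (h : b y = t) : ∃ m : Spec (Y.residueField y) ⟶ Spec (S.residueField t),
      m ≫ S.fromSpecResidueField t = Y.fromSpecResidueField y ≫ b ∧ Etale m ∧ IsFinite m := by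
  subst h
  obtain ⟨h1, h2⟩ := resEt b y
  exact ⟨Spec.map (b.residueFieldMap y), Scheme.Hom.SpecMap_residueFieldMap_fromSpecResidueField b y, h1, h2⟩

variable [GeometricallyConnected p]

/-- **The Stein factor near a section over the closed fibre.** -/
theorem exists_degree_one (σ : p.fiber (cpt R) ⟶ E) (hσ : σ ≫ e = p.fiberι (cpt R)) :
    ∃ (S' : Scheme.{u}) (b : S' ⟶ Spec (CommRingCat.of R)) (ψ : E ⟶ pullback p b) (s : S')
      (σ₁ : p.fiber (cpt R) ⟶ (ψ ≫ pullback.snd p b).fiber s),
      IsFinite b ∧ Etale b ∧ b s = cpt R ∧ ψ ≫ pullback.fst p b = e ∧ IsFinite ψ ∧ Etale ψ ∧ IsIso σ₁ ∧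
      σ₁ ≫ (ψ ≫ pullback.snd p b).fiberι s = σ ∧
      ∃ y : ↥(pullback p b : Scheme.{u}), pullback.snd p b y = s ∧ ψ.finrank y = 1 := by
  obtain ⟨S', b, a, hab, hb1, hb2, ha⟩ := stein p e
  have hint : IsIntegral (p.fiber (cpt R)) := isIntegral_fiber p _
  obtain ⟨s, w₁, hs, hw₁⟩ := exists_point b (σ ≫ a) (fun z => by
    rw [← Scheme.Hom.comp_apply, Category.assoc, hab, ← Category.assoc, hσ, Scheme.Hom.comp_apply,
      CycB.FiberKer.apply_fiberι])
  let ψ : E ⟶ pullback p b := pullback.lift e a hab.symm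
  have hψ1 : ψ ≫ pullback.fst p b = e := pullback.lift_fst _ _ _
  have hψ2 : ψ ≫ pullback.snd p b = a := pullback.lift_snd _ _ _
  have hfin : IsFinite ψ := by
    have : IsFinite (ψ ≫ pullback.fst p b) := by rw [hψ1]; infer_instance
    exact IsFinite.of_comp ψ (pullback.fst p b)
  have het : Etale ψ := by
    have : Etale (ψ ≫ pullback.fst p b) := by rw [hψ1]; infer_instance
    exact Etale.of_comp ψ (pullback.fst p b)
  have hw₂ : σ ≫ (ψ ≫ pullback.snd p b) = w₁ ≫ S'.fromSpecResidueField s := by rw [hψ2, hw₁]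
  let q := pullback.snd p b
  let j := (ψ ≫ q).fiberι s
  let σ₁ : p.fiber (cpt R) ⟶ (ψ ≫ q).fiber s := pullback.lift σ w₁ hw₂
  have hσ₁ : σ₁ ≫ j = σ := pullback.lift_fst _ _ _
  -- the morphism `E_s ⟶ X_s`
  let v₁ : (ψ ≫ q).fiber s ⟶ q.fiber s := pullback.lift (j ≫ ψ) ((ψ ≫ q).fiberToSpecResidueField s) (by
    rw [Category.assoc]
    exact pullback.condition)
  have hv₁ : v₁ ≫ q.fiberι s = j ≫ ψ := pullback.lift_fst _ _ _
  have hpb₁ : IsPullback j v₁ ψ (q.fiberι s) := by
    refine IsPullback.of_bot (h₃₁ := S'.fromSpecResidueField s) (v₂₁ := q.fiberToSpecResidueField s) (v₂₂ := q)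
      ?_ hv₁.symm (IsPullback.of_hasPullback _ _)
    have h1 : v₁ ≫ q.fiberToSpecResidueField s = (ψ ≫ q).fiberToSpecResidueField s := pullback.lift_snd _ _ _
    rw [h1]
    exact IsPullback.of_hasPullback _ _
  have hv₁et : Etale v₁ := MorphismProperty.of_isPullback hpb₁ het
  have hv₁fin : IsFinite v₁ := MorphismProperty.of_isPullback hpb₁ hfin
  -- the morphism `X_s ⟶ X_0`
  obtain ⟨m, hm, hm1, hm2⟩ := exists_resMap b hs
  let v₂ : q.fiber s ⟶ p.fiber (cpt R) := pullback.lift (q.fiberι s ≫ pullback.fst p b)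
    (q.fiberToSpecResidueField s ≫ m) (by
      rw [Category.assoc, Category.assoc, hm, pullback.condition]
      exact pullback.condition_assoc _)
  have hv₂ : v₂ ≫ p.fiberι (cpt R) = q.fiberι s ≫ pullback.fst p b := pullback.lift_fst _ _ _
  have hpb₂ : IsPullback v₂ (q.fiberToSpecResidueField s) (p.fiberToSpecResidueField (cpt R)) m := by
    refine IsPullback.of_right (h₁₂ := p.fiberι (cpt R)) (v₁₃ := p)
      (h₂₂ := (Spec (CommRingCat.of R)).fromSpecResidueField (cpt R)) ?_ (pullback.lift_snd _ _ _)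
      (IsPullback.of_hasPullback _ _)
    rw [hv₂, hm]
    exact (IsPullback.of_hasPullback q (S'.fromSpecResidueField s)).paste_horiz (IsPullback.of_hasPullback p b)
  have hv₂et : Etale v₂ := MorphismProperty.of_isPullback hpb₂.flip hm1
  have hv₂fin : IsFinite v₂ := MorphismProperty.of_isPullback hpb₂.flip hm2
  have hmono : Mono (p.fiberι (cpt R)) :=
    inferInstanceAs (Mono (pullback.fst p ((Spec (CommRingCat.of R)).fromSpecResidueField (cpt R))))
  have hsec : σ₁ ≫ (v₁ ≫ v₂) = 𝟙 _ := by
    rw [← cancel_mono (p.fiberι (cpt R)), Category.assoc, Category.assoc, hv₂, reassoc_of% hv₁, hψ1,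
      reassoc_of% hσ₁, hσ, Category.id_comp]
  have hconE : ConnectedSpace ((ψ ≫ q).fiber s) := by
    have : GeometricallyConnected (ψ ≫ q) := by
      have h2 : ψ ≫ q = a := hψ2
      rw [h2]
      exact ha
    exact GeometricallyConnected.geometrically_connectedSpace (f := ψ ≫ q) _ _ _ (.of_hasPullback _ _)
  have hconX : ConnectedSpace (q.fiber s) :=
    GeometricallyConnected.geometrically_connectedSpace (f := q) _ _ _ (.of_hasPullback _ _)
  have hne : Nonempty (p.fiber (cpt R)) := inferInstance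
  have hiso : IsIso σ₁ := isIso_of_section σ₁ (v₁ ≫ v₂) hsec
  have hiso2 : IsIso (σ₁ ≫ v₁) := isIso_of_section (σ₁ ≫ v₁) v₂ (by rw [Category.assoc, hsec])
  have hiso3 : IsIso v₁ := IsIso.of_isIso_comp_left σ₁ v₁
  obtain ⟨x⟩ := hne
  refine ⟨S', b, ψ, s, σ₁, hb1, hb2, hs, hψ1, hfin, het, hiso, hσ₁, q.fiberι s (v₁ (σ₁ x)), ?_, ?_⟩
  · exact CycB.FiberKer.apply_fiberι q s _
  · rw [← Scheme.Hom.finrank_of_isPullback _ _ _ _ hpb₁, Scheme.Hom.finrank_eq_one_of_isIso]
    rfl

end K843.SteinSec
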