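import Groth.Agent.CanPar.K843.ExtAll
import Groth.Agent.CurvesB.CurveRR

/-!
# Extension of the parabolic subgroup over the whole curve in the case of equality of degrees
-/

set_option autoImplicit false
universe u

open CategoryTheory CategoryTheory.Limits MonoidalCategory CartesianMonoidalCategory MonObj GrpObj
open AlgebraicGeometry TopologicalSpace IsLocalRing

namespace K843.Step2

open Groth.Agent K795.OmQuot K795.OmegaGrp K795.GenZero K795.ParExt Groth.Agent.RedSub.H647.SubPt
  Groth.Agent.VarietyA.DegRank K795.GenFib K843.CurveFib K843.KillChain K843.Main67 K843.FieldPt K843.ExtAll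

variable {R : Type u} [CommRing R] [IsDomain R] [IsDiscreteValuationRing R]
  {X : Scheme.{u}} (p : X ⟶ Spec (CommRingCat.of R)) [Smooth p] [IsProper p] [GeometricallyConnected p]

theorem isNoetherian_fiber (s : Spec (CommRingCat.of R)) : IsNoetherian (p.fiber s) := by
  let : (p.fiber s).Over (Spec (CommRingCat.of ((Spec (CommRingCat.of R)).residueField s))) :=
    ⟨p.fiberToSpecResidueField s⟩
  have : IsProper ((p.fiber s) ↘ (Spec (CommRingCat.of ((Spec (CommRingCat.of R)).residueField s)))) :=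
    isProper_fiber p s
  exact CurvesB.CurveRR.isNoetherian_of_proper ((Spec (CommRingCat.of R)).residueField s) (p.fiber s)

variable {G : Over X} [GrpObj G] [QuasiSeparated G.hom] (hG : Red.IsReductive G)
  {M : Over X} {H : Over M.left} [GrpObj H] {h : H ⟶ Red.bc M.hom G} (hM : RedSub.RepresentsPar G M H h)
  [IsProper M.hom]
  [IsIntegral (p.fiber (cpt R))] [IsIntegral (p.fiber (gpt R))] [IsIntegral X]
  {Q : Over (p.fiber (gpt R))} [GrpObj Q] {j : Q ⟶ Red.bc (p.fiberι (gpt R)) G} (hQ : Red.IsParabolic j)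
  [IsMonHom j] [QuasiSeparated Q.hom]
  {P : Over (p.fiber (cpt R))} [GrpObj P] {i : P ⟶ Red.bc (p.fiberι (cpt R)) G} [QuasiSeparated P.hom]
  (hi : Red.IsParabolic i)
  {φ : p.fiber (gpt R) ⟶ M.left} {φ₀ : p.fiber (cpt R) ⟶ M.left}
  {a : Spec X.functionField ⟶ p.fiber (gpt R)}
  {φA : Spec (X.presheaf.stalk (p.fiberι (cpt R) (genericPoint (p.fiber (cpt R))))) ⟶ M.left}
  {W : X.Modules} {ρ : cn G ⟶ W} {e : (Scheme.Modules.pullback (p.fiberι (gpt R))).obj W ≅ cn Q}
  {τ : (Scheme.Modules.pullback (p.fiberι (cpt R))).obj W ⟶ cn P}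
  (fQ : Fam h j φ) (hφ : φ ≫ M.hom = p.fiberι (gpt R)) (hφ₀ : φ₀ ≫ M.hom = p.fiberι (cpt R))
  (ha : a ≫ p.fiberι (gpt R) = X.fromSpecStalk (genericPoint X))
  (hA : φA ≫ M.hom = X.fromSpecStalk (p.fiberι (cpt R) (genericPoint (p.fiber (cpt R)))))
  (h1 : Spec.map (X.presheaf.stalkSpecializes (genericPoint_specializes
        (p.fiberι (cpt R) (genericPoint (p.fiber (cpt R)))))) ≫ φA = a ≫ φ)
  (h2 : Spec.map ((p.fiberι (cpt R)).stalkMap (genericPoint (p.fiber (cpt R)))) ≫ φA =
        (p.fiber (cpt R)).fromSpecStalk (genericPoint (p.fiber (cpt R))) ≫ φ₀)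
  (hrk : rk (cn Q) = rk (cn P)) [Epi ρ] (hW : Coh.IsCoh W)
  (he : (Scheme.Modules.pullback (p.fiberι (gpt R))).map ρ ≫ e.hom = q j) [IsIso τ]

include hG hM hQ hi fQ hφ hφ₀ ha hA h1 h2 hrk hW he τ in
/-- The two classifying morphisms glue. -/
theorem exists_total : ∃ s : X ⟶ M.left, s ≫ M.hom = 𝟙 X ∧ p.fiberι (gpt R) ≫ s = φ ∧
    p.fiberι (cpt R) ≫ s = φ₀ := by
  have hoi := isOpenImmersion_fiberι R p
  have hN : ∀ x : X, IsIntegrallyClosed (X.presheaf.stalk x) := fun x => by
    have := Pi1.H382.StalkDvr.isRegularLocalRing p x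
    exact CurvesC.RegNormal.isIntegrallyClosed _
  have hnoeth := isNoetherian_fiber p (gpt R)
  have hqc : QuasiCompact φ := inferInstance
  have hks : Kills j (kernel.ι ρ) := by
    have h3 : (Scheme.Modules.pullback (p.fiberι (gpt R))).map (kernel.ι ρ) ≫ q j = 0 := by
      rw [← he, ← Category.assoc, ← Functor.map_comp, kernel.condition, Functor.map_zero, zero_comp]
    exact h3
  have := hQ.2.2.1
  have := hi.2.2.1
  have hrkW : ∀ (K : Type u) [Field K] (x : Spec (CommRingCat.of K) ⟶ X) (t : Spec (CommRingCat.of K)),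
    Module.finrank ((Spec (CommRingCat.of K)).presheaf.stalk t)
      (((Scheme.Modules.pullback x).obj W).presheaf.stalk t) = rk (cn Q) := by
    intro K _ x t
    rcases Models.DVRGeneric.eq_closedPoint_or_eq_bot R (p (x (closedPoint K))) with hs | hs
    · obtain ⟨y, hy⟩ := exists_lift_fiber' p x (cpt R) hs
      rw [finrank_pt (p.fiberι (cpt R)) (isFinLocFree_cn P) (asIso τ) x y hy t, hrk]
    · obtain ⟨y, hy⟩ := exists_lift_fiber' p x (gpt R) (PrimeSpectrum.ext hs)
      exact finrank_pt (p.fiberι (gpt R)) (isFinLocFree_cn Q) e x y hy t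
  obtain ⟨s, hs1, hs2⟩ := ExtClosure.exists_section hN (p.fiberι (gpt R)) M.hom φ hφ
    (fun Z _ c iZ _ hc hci K _ z₁ z₂ hz => points_eq hG hM hφ hQ fQ hW ρ hks hrkW c iZ hc hci K z₁ z₂ hz)
  refine ⟨s, hs1, hs2, ?_⟩
  have hXs : X.IsSeparated := isSeparated_total p
  have hMs : M.left.IsSeparated := by
    rw [Scheme.isSeparated_iff, ← terminal.comp_from M.hom]
    infer_instance
  have key : X.fromSpecStalk (p.fiberι (cpt R) (genericPoint (p.fiber (cpt R)))) ≫ s = φA := by
    have hd : IsDominant (Spec.map (X.presheaf.stalkSpecializes (genericPoint_specializes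
        (p.fiberι (cpt R) (genericPoint (p.fiber (cpt R))))))) := by
      constructor
      have h5 := spec_closed (p.fiberι (cpt R) (genericPoint (p.fiber (cpt R)))) (closedPoint X.functionField)
      rw [DenseRange]
      refine (dense_iff_closure_eq.mpr (genericPoint_spec
        (Spec (X.presheaf.stalk (p.fiberι (cpt R) (genericPoint (p.fiber (cpt R)))))))).mono ?_
      rintro _ rfl
      exact ⟨_, h5⟩
    refine AlgebraicGeometry.ext_of_isDominant (Spec.map (X.presheaf.stalkSpecializes (genericPoint_specializes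
        (p.fiberι (cpt R) (genericPoint (p.fiber (cpt R))))))) ?_
    rw [h1, ← hs2, ← Category.assoc, ← Category.assoc, ha, Scheme.SpecMap_stalkSpecializes_fromSpecStalk]
  have hd2 := K795.ExtSection.isDominant_fromSpecStalk (p.fiber (cpt R))
  refine AlgebraicGeometry.ext_of_isDominant
    ((p.fiber (cpt R)).fromSpecStalk (genericPoint (p.fiber (cpt R)))) ?_
  rw [← h2, ← key, ← Category.assoc, ← Category.assoc]
  congr 1
  exact (SpecHom.stalkMap_from (p.fiberι (cpt R)) (genericPoint (p.fiber (cpt R)))).symm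

end K843.Step2
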